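import Cfsg.Agent.TensorMax.Unipotent

/-!
# An overgroup of a tensor stabiliser contains an outside element fixing some `F^a ⊗ c`
-/

set_option autoImplicit false
set_option linter.unusedSectionVars false

namespace CfsgLib.TensorMax

open Matrix Cfsg.Geo CfsgLib.MaxSub
open scoped Kronecker

variable {F : Type*} [Field F] {a b : ℕ}

/-- If `g` maps every pure tensor to a pure tensor, it maps some `F^a ⊗ c` onto an `F^a ⊗ c'`. -/
theorem exists_block_of_preserves [NeZero a] (ha : 2 ≤ a) (hab : a < b) (g : GL (Idx a b) F)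
    (hg : ∀ x y, IsPure ((g : Matrix (Idx a b) (Idx a b) F) *ᵥ ten x y)) :
    ∃ c c' : Fin b → F, c ≠ 0 ∧ c' ≠ 0 ∧
      ∀ x, ∃ x', (g : Matrix (Idx a b) (Idx a b) F) *ᵥ ten x c = ten x' c' := by
  classical
  have : NeZero b := ⟨by omega⟩
  have hginj : Function.Injective ((g : Matrix (Idx a b) (Idx a b) F).mulVec) :=
    mulVec_injective_iff_isUnit.mpr g.isUnit
  -- a linear family of pure tensors has a common factor
  have key : ∀ {V : Type _} [AddCommGroup V] [Module F V] (T : V →ₗ[F] (Idx a b → F)),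
      (∀ v, IsPure (T v)) → Function.Injective T → ∀ v₀ : V, v₀ ≠ 0 →
      (∃ c' : Fin b → F, c' ≠ 0 ∧ ∀ v, ∃ x', T v = ten x' c') ∨
        (∃ x' : Fin a → F, x' ≠ 0 ∧ ∀ v, ∃ y', T v = ten x' y') := by
    intro V _ _ T hT hTi v₀ hv₀
    obtain ⟨x₀, y₀, h0⟩ := hT v₀
    have hne : ten x₀ y₀ ≠ (0 : Idx a b → F) := fun h =>
      hv₀ (hTi (by rw [h0, h, map_zero]))
    rw [Ne, ten_eq_zero, not_or] at hne
    have hdep : ∀ v w x y x' y', T v = ten x y → T w = ten x' y' → x ≠ 0 → y ≠ 0 →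
        (∃ k : F, k • x = x') ∨ ∃ k : F, k • y = y' := by
      intro v w x y x' y' h1 h2 hx hy
      refine dependent_of_pure_add hx hy ?_
      rw [← h1, ← h2, ← map_add]
      exact hT _
    by_cases hall : ∀ v, ∃ y', T v = ten x₀ y'
    · exact Or.inr ⟨x₀, hne.1, hall⟩
    push Not at hall
    obtain ⟨v₁, hv₁⟩ := hall
    obtain ⟨x₁, y₁, h1⟩ := hT v₁
    have hk1 : ∃ k : F, k • y₀ = y₁ := by
      refine (hdep _ _ _ _ _ _ h0 h1 hne.1 hne.2).resolve_left ?_
      rintro ⟨k, rfl⟩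
      exact hv₁ (k • y₁) (by rw [h1, ten_smul_left, ten_smul_right])
    obtain ⟨k₁, rfl⟩ := hk1
    have h1' : T v₁ = ten (k₁ • x₁) y₀ := by rw [h1, ten_smul_left, ten_smul_right]
    refine Or.inl ⟨y₀, hne.2, fun v => ?_⟩
    obtain ⟨x, y, h⟩ := hT v
    rcases hdep _ _ _ _ _ _ h0 h hne.1 hne.2 with ⟨k, rfl⟩ | ⟨k, rfl⟩
    swap
    · exact ⟨k • x, by rw [h, ten_smul_left, ten_smul_right]⟩
    rcases eq_or_ne (k₁ • x₁) 0 with hz | hz
    · exact absurd (by rw [h1', hz, ten_eq_zero.mpr (Or.inl rfl), ten_eq_zero.mpr (Or.inr rfl)])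
        (hv₁ 0)
    rcases hdep _ _ _ _ _ _ h1' h hz hne.2 with ⟨l, hl⟩ | ⟨l, hl⟩
    · rcases eq_or_ne k 0 with rfl | hk0
      · exact ⟨0, by rw [h, zero_smul, ten_eq_zero.mpr (Or.inl rfl), ten_eq_zero.mpr (Or.inl rfl)]⟩
      · rcases eq_or_ne l 0 with rfl | hl0
        · rw [zero_smul] at hl
          exact absurd hl.symm (smul_ne_zero hk0 hne.1)
        · exact absurd (by rw [h1', show k₁ • x₁ = (l⁻¹ * k) • x₀ by
            rw [mul_smul, ← hl, smul_smul, inv_mul_cancel₀ hl0, one_smul], ten_smul_left,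
            ← ten_smul_right]) (hv₁ ((l⁻¹ * k) • y₀))
    · exact ⟨l • (k • x₀), by rw [h, ← hl, ten_smul_right, ← ten_smul_left]⟩
  -- apply it to the subspaces `x ⊗ F^b`
  have hright : ∀ x : Fin a → F, x ≠ 0 → ∃ x' : Fin a → F, x' ≠ 0 ∧
      ∀ y, ∃ y', (g : Matrix (Idx a b) (Idx a b) F) *ᵥ ten x y = ten x' y' := by
    intro x hx
    let T : (Fin b → F) →ₗ[F] (Idx a b → F) :=
      { toFun := fun y => (g : Matrix (Idx a b) (Idx a b) F) *ᵥ ten x y
        map_add' := fun y z => by rw [ten_add_right, mulVec_add]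
        map_smul' := fun c y => by rw [ten_smul_right, mulVec_smul]; rfl }
    have hTi : Function.Injective T := fun y z h => ten_inj_right hx (hginj h)
    rcases key T (fun y => hg x y) hTi (Pi.single 0 1) (by simp) with ⟨c', hc', h⟩ | h
    swap
    · exact h
    exfalso
    have hle : LinearMap.range T ≤ LinearMap.range (tenL (a := a) c') := by
      rintro _ ⟨y, rfl⟩
      obtain ⟨x', hx'⟩ := h y
      exact ⟨x', hx'.symm⟩
    have := Submodule.finrank_mono hle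
    rw [LinearMap.finrank_range_of_inj hTi, LinearMap.finrank_range_of_inj (tenL_injective hc'),
      Module.finrank_fin_fun, Module.finrank_fin_fun] at this
    omega
  -- some `F^a ⊗ c` keeps its shape
  by_contra hcon
  push Not at hcon
  have hleft : ∀ c : Fin b → F, c ≠ 0 → ∃ x' : Fin a → F, x' ≠ 0 ∧
      ∀ x, ∃ y', (g : Matrix (Idx a b) (Idx a b) F) *ᵥ ten x c = ten x' y' := by
    intro c hc
    let T : (Fin a → F) →ₗ[F] (Idx a b → F) :=
      { toFun := fun x => (g : Matrix (Idx a b) (Idx a b) F) *ᵥ ten x c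
        map_add' := fun y z => by rw [ten_add_left, mulVec_add]
        map_smul' := fun k y => by rw [ten_smul_left, mulVec_smul]; rfl }
    have hTi : Function.Injective T := fun y z h => ten_inj_left hc (hginj h)
    rcases key T (fun x => hg x c) hTi (Pi.single 0 1) (by simp) with ⟨c', hc', h⟩ | h
    · obtain ⟨x, hx⟩ := hcon c c' hc hc'
      obtain ⟨x', hx'⟩ := h x
      exact absurd hx' (hx x')
    · exact h
  -- then all images share the first factor
  have hc0 : (Pi.single 0 1 : Fin b → F) ≠ 0 := by simp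
  obtain ⟨z, hz, hzall⟩ := hleft _ hc0
  have hall : ∀ x y, ∃ y', (g : Matrix (Idx a b) (Idx a b) F) *ᵥ ten x y = ten z y' := by
    intro x y
    rcases eq_or_ne x 0 with rfl | hx
    · exact ⟨0, by rw [ten_eq_zero.mpr (Or.inl rfl), mulVec_zero, ten_eq_zero.mpr (Or.inr rfl)]⟩
    obtain ⟨x', hx', hx'all⟩ := hright x hx
    obtain ⟨y₁, hy₁⟩ := hzall x
    obtain ⟨y₂, hy₂⟩ := hx'all (Pi.single 0 1)
    have hne : ten z y₁ ≠ (0 : Idx a b → F) := fun h => by
      have h' := hy₁.trans (h.trans (mulVec_zero (g : Matrix (Idx a b) (Idx a b) F)).symm)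
      have := ten_eq_zero.mp (hginj h')
      tauto
    rw [Ne, ten_eq_zero, not_or] at hne
    have he := hy₂.symm.trans hy₁
    have hy₂0 : y₂ ≠ 0 := by
      rintro rfl
      rw [ten_eq_zero.mpr (Or.inr rfl), eq_comm, ten_eq_zero] at he
      tauto
    obtain ⟨j, hj⟩ := Function.ne_iff.mp hy₂0
    have hx'z : x' = (y₁ j / y₂ j) • z := by
      funext i
      have := congrFun he (i, j)
      simp only [ten] at this
      rw [Pi.smul_apply, smul_eq_mul, div_mul_eq_mul_div, eq_div_iff hj, this, mul_comm]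
    obtain ⟨y', hy'⟩ := hx'all y
    exact ⟨(y₁ j / y₂ j) • y', by rw [hy', hx'z, ten_smul_left, ten_smul_right]⟩
  -- which contradicts surjectivity
  obtain ⟨f, hf0, hf⟩ : ∃ f : Fin a → F, f ≠ 0 ∧ f ⬝ᵥ z = 0 := by
    obtain ⟨i, hi⟩ := Function.ne_iff.mp hz
    obtain ⟨j, hij⟩ : ∃ j : Fin a, j ≠ i := by
      have : Nontrivial (Fin a) := Fin.nontrivial_iff_two_le.mpr ha
      exact exists_ne i
    refine ⟨Pi.single j (z i) - Pi.single i (z j), fun h => hi ?_, ?_⟩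
    · have := congrFun h j
      simpa [Pi.single_eq_of_ne hij] using this
    · rw [sub_dotProduct, single_dotProduct, single_dotProduct]; ring
  obtain ⟨y, hy⟩ := exists_dot_eq_one hc0
  have hzero : ∀ p : Idx a b, ten f y ⬝ᵥ ((g : Matrix (Idx a b) (Idx a b) F) *ᵥ Pi.single p 1) = 0 := by
    intro p
    have hp : (Pi.single p (1 : F) : Idx a b → F) = ten (Pi.single p.1 1) (Pi.single p.2 1) := by
      funext q
      obtain ⟨i, j⟩ := p
      obtain ⟨k, l⟩ := q
      simp only [ten, Pi.single_apply, Prod.mk.injEq]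
      split_ifs <;> simp_all
    obtain ⟨y', hy'⟩ := hall (Pi.single p.1 1) (Pi.single p.2 1)
    rw [hp, hy', ten_dot, hf, zero_mul]
  have h0 : ten f y ᵥ* (g : Matrix (Idx a b) (Idx a b) F) = 0 := by
    funext p
    have := hzero p
    rwa [dotProduct_mulVec, dotProduct_single, mul_one] at this
  have hinj2 : Function.Injective (fun v => v ᵥ* (g : Matrix (Idx a b) (Idx a b) F)) :=
    vecMul_injective_iff_isUnit.mpr g.isUnit
  have h1 := ten_eq_zero.mp (hinj2 (h0.trans (zero_vecMul _).symm))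
  rcases h1 with h1 | h1
  · exact hf0 h1
  · rw [h1, zero_dotProduct] at hy
    exact zero_ne_one hy

/-- The non-zero pure tensors. -/
def pureSet (a b : ℕ) (F : Type*) [Field F] : Set (Idx a b → F) :=
  {v | ∃ x y, x ≠ 0 ∧ y ≠ 0 ∧ v = ten x y}

/-- The number of non-zero pure tensors is prime to the characteristic. -/
theorem not_dvd_card_pureSet [Finite F] [NeZero a] [NeZero b] {p : ℕ} [Fact p.Prime] [CharP F p] :
    ¬ p ∣ Nat.card (pureSet a b F) := by
  classical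
  have := Fintype.ofFinite F
  let π : {x : Fin a → F // x ≠ 0} × {y : Fin b → F // y ≠ 0} → pureSet a b F :=
    fun z => ⟨ten z.1.1 z.2.1, z.1.1, z.2.1, z.1.2, z.2.2, rfl⟩
  have hfib : ∀ v : pureSet a b F, Fintype.card {z // π z = v} = Fintype.card Fˣ := by
    rintro ⟨v, x, y, hx, hy, rfl⟩
    refine (Fintype.card_of_bijective (f := fun k : Fˣ =>
      (⟨(⟨(k : F) • x, smul_ne_zero k.ne_zero hx⟩, ⟨(k : F)⁻¹ • y,
        smul_ne_zero (inv_ne_zero k.ne_zero) hy⟩), Subtype.ext (by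
          show ten ((k : F) • x) ((k : F)⁻¹ • y) = ten x y
          rw [ten_smul_left, ten_smul_right, smul_smul, mul_inv_cancel₀ k.ne_zero, one_smul])⟩ :
        {z // π z = ⟨ten x y, x, y, hx, hy, rfl⟩})) ⟨fun k l h => ?_, fun z => ?_⟩).symm
    · have := congrArg (fun z : {z // π z = _} => (z.1.1.1 : Fin a → F)) h
      exact Units.ext (smul_left_injective F hx this)
    · obtain ⟨⟨⟨x', hx'⟩, ⟨y', hy'⟩⟩, hz⟩ := z
      have he : ten x' y' = ten x y := congrArg Subtype.val hz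
      obtain ⟨j, hj⟩ := Function.ne_iff.mp hy'
      have hk : x' = (y j / y' j) • x := by
        funext i
        have := congrFun he (i, j)
        simp only [ten] at this
        rw [Pi.smul_apply, smul_eq_mul, div_mul_eq_mul_div, eq_div_iff hj, this, mul_comm]
      have hk0 : y j / y' j ≠ 0 := fun h => hx' (by rw [hk, h, zero_smul])
      refine ⟨Units.mk0 _ hk0, Subtype.ext (Prod.ext (Subtype.ext hk.symm) (Subtype.ext ?_))⟩
      show (y j / y' j)⁻¹ • y = y'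
      refine ten_inj_right hx' ?_
      rw [he, hk, ten_smul_left, ← ten_smul_right, smul_smul, mul_inv_cancel₀ hk0, one_smul]
  have hcard : Fintype.card ({x : Fin a → F // x ≠ 0} × {y : Fin b → F // y ≠ 0})
      = Fintype.card (pureSet a b F) * Fintype.card Fˣ := by
    rw [Fintype.card_congr (Equiv.sigmaFiberEquiv π).symm, Fintype.card_sigma,
      Finset.sum_congr rfl (fun v _ => hfib v), Finset.sum_const, Finset.card_univ, smul_eq_mul]
  have hq : ((Fintype.card F : ℕ) : ZMod p) = 0 := by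
    obtain ⟨n, -, hn⟩ := FiniteField.card F p
    rw [hn, Nat.cast_pow, ZMod.natCast_self, zero_pow n.pos.ne']
  have hsub : ∀ m : ℕ, m ≠ 0 →
      ((Fintype.card {x : Fin m → F // x ≠ 0} : ℕ) : ZMod p) = -1 := by
    intro m hm
    rw [Fintype.card_subtype_compl, Fintype.card_subtype_eq, Fintype.card_fun, Fintype.card_fin,
      Nat.cast_sub (Nat.one_le_pow _ _ Fintype.card_pos), Nat.cast_pow, hq, zero_pow hm, Nat.cast_one,
      zero_sub]
  intro hdvd
  rw [Nat.card_eq_fintype_card, ← ZMod.natCast_eq_zero_iff] at hdvd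
  have := congrArg (fun k : ℕ => (k : ZMod p)) hcard
  simp only [Fintype.card_prod, Nat.cast_mul, hsub a (NeZero.ne a), hsub b (NeZero.ne b), hdvd,
    zero_mul, neg_mul_neg, one_mul] at this
  exact one_ne_zero this

/-- A `p`-group in the tensor stabiliser fixes a non-zero pure tensor. -/
theorem exists_fixed_pure [Finite F] [NeZero a] [NeZero b] {p : ℕ} [Fact p.Prime] [CharP F p]
    {P : Subgroup (GL (Idx a b) F)} (hP : IsPGroup p P) (hPK : P ≤ kroneckerSubgroup a b F) :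
    ∃ x y, x ≠ 0 ∧ y ≠ 0 ∧ ∀ g ∈ P, (g : Matrix (Idx a b) (Idx a b) F) *ᵥ ten x y = ten x y := by
  classical
  have hmem : ∀ g : P, ∀ v ∈ pureSet a b F,
      ((g : GL (Idx a b) F) : Matrix (Idx a b) (Idx a b) F) *ᵥ v ∈ pureSet a b F := by
    rintro g _ ⟨x, y, hx, hy, rfl⟩
    obtain ⟨S, T, hg⟩ := hPK g.2
    refine ⟨(S : Matrix (Fin a) (Fin a) F) *ᵥ x, (T : Matrix (Fin b) (Fin b) F) *ᵥ y, fun h => hx ?_,
      fun h => hy ?_, by rw [hg, kron_mulVec_ten]⟩
    · exact mulVec_injective_iff_isUnit.mpr S.isUnit (h.trans (mulVec_zero _).symm)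
    · exact mulVec_injective_iff_isUnit.mpr T.isUnit (h.trans (mulVec_zero _).symm)
  let _ : MulAction P (pureSet a b F) :=
    { smul := fun g v => ⟨_, hmem g v v.2⟩
      one_smul := fun v => Subtype.ext (by
        show (1 : Matrix (Idx a b) (Idx a b) F) *ᵥ _ = _
        rw [one_mulVec])
      mul_smul := fun g h v => Subtype.ext (by
        show ((g : GL (Idx a b) F) * (h : GL (Idx a b) F) : GL (Idx a b) F).val *ᵥ _ = _
        rw [Units.val_mul, ← mulVec_mulVec]; rfl) }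
  have : Finite (pureSet a b F) := Subtype.finite
  obtain ⟨⟨v, x, y, hx, hy, rfl⟩, hfix⟩ :=
    hP.nonempty_fixed_point_of_prime_not_dvd_card (pureSet a b F) not_dvd_card_pureSet
  exact ⟨x, y, hx, hy, fun g hg => congrArg Subtype.val (hfix ⟨g, hg⟩)⟩

/-- An overgroup of the tensor stabiliser different from it has an outside element stabilising
some `F^a ⊗ c`. -/
theorem exists_block_fixing [Finite F] [NeZero a] (ha : 2 ≤ a) (hab : a < b)
    {M : Subgroup (GL (Idx a b) F)} (hLM : tensSL a b F ≤ M)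
    {g : GL (Idx a b) F} (hgM : g ∈ M) (hgL : g ∉ tensSL a b F) :
    ∃ y ∈ M, y ∉ tensSL a b F ∧ ∃ c : Fin b → F, c ≠ 0 ∧
      ∀ x, ∃ x', (y : Matrix (Idx a b) (Idx a b) F) *ᵥ ten x c = ten x' c := by
  classical
  have : NeZero b := ⟨by omega⟩
  -- it suffices to send one block to another
  suffices h : ∃ y ∈ M, y ∉ tensSL a b F ∧ ∃ c c' : Fin b → F, c ≠ 0 ∧ c' ≠ 0 ∧
      ∀ x, ∃ x', (y : Matrix (Idx a b) (Idx a b) F) *ᵥ ten x c = ten x' c' by
    obtain ⟨y, hyM, hyL, c, c', hc, hc', hy⟩ := h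
    obtain ⟨T, hT, k, hk, hTc⟩ := exists_move hc' hc
    have hlL : krG ((1 : GL (Fin a) F), T) ∈ tensSL a b F := krG_mem_tensSL (Subgroup.one_mem _) hT
    refine ⟨_, M.mul_mem (hLM hlL) hyM, fun h => hyL ?_, c, hc, fun x => ?_⟩
    · have := (tensSL a b F).mul_mem ((tensSL a b F).inv_mem hlL) h
      rwa [inv_mul_cancel_left] at this
    · obtain ⟨x', hx'⟩ := hy x
      refine ⟨k • x', ?_⟩
      rw [Units.val_mul, ← mulVec_mulVec, hx', krG_val, kron_mulVec_ten, Units.val_one, one_mulVec, hTc,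
        ten_smul_left, ten_smul_right]
  set p := ringChar F
  have : Fact p.Prime := ⟨CharP.char_is_prime F p⟩
  -- a conjugate of a root element inside the tensor stabiliser gives such an element
  have fusion : ∀ y ∈ M, y ∉ tensSL a b F → ∀ c ψ : Fin b → F, c ≠ 0 → ψ ≠ 0 → ψ ⬝ᵥ c = 0 →
      y * root c ψ * y⁻¹ ∈ kroneckerSubgroup a b F →
      (∃ k, (y * root c ψ * y⁻¹) ^ p ^ k = 1) →
      ∃ y ∈ M, y ∉ tensSL a b F ∧ ∃ c c' : Fin b → F, c ≠ 0 ∧ c' ≠ 0 ∧
        ∀ x, ∃ x', (y : Matrix (Idx a b) (Idx a b) F) *ᵥ ten x c = ten x' c' := by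
    intro y hyM hyL c ψ hc hψ hcψ hmem ⟨k, hk⟩
    obtain ⟨c', ψ', hc', hψ', hcψ', he⟩ := eq_root_of_rank hab (p := p) hmem hk
      (by rw [rank_conj_sub_one, rank_root_sub_one hc hψ hcψ])
    refine ⟨y, hyM, hyL, c, c', hc, hc', fun x => ?_⟩
    obtain ⟨w, hw⟩ : ten x c ∈ LinearMap.range
        (((root (a := a) c ψ : Matrix (Idx a b) (Idx a b) F) - 1).mulVecLin) := by
      rw [range_root_sub_one hψ hcψ]; exact ⟨x, rfl⟩
    have hmem' : (y : Matrix (Idx a b) (Idx a b) F) *ᵥ ten x c ∈ LinearMap.range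
        (((root (a := a) c' ψ' : Matrix (Idx a b) (Idx a b) F) - 1).mulVecLin) := by
      refine ⟨(y : Matrix (Idx a b) (Idx a b) F) *ᵥ w, ?_⟩
      rw [← hw, ← he, mulVecLin_apply, mulVecLin_apply, mulVec_mulVec, mulVec_mulVec]
      congr 1
      rw [sub_mul, mul_sub, Units.val_mul, Units.val_mul, one_mul, mul_one, mul_assoc, Units.inv_mul,
        mul_one]
    rw [range_root_sub_one hψ' hcψ'] at hmem'
    obtain ⟨x', hx'⟩ := hmem'
    exact ⟨x', hx'.symm⟩
  have hrootp : ∀ c ψ : Fin b → F, ψ ⬝ᵥ c = 0 → root (a := a) c ψ ^ p = 1 := by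
    intro c ψ h
    apply Units.ext
    have hsq : ((1 : Matrix (Fin a) (Fin a) F) ⊗ₖ vecMulVec c ψ) ^ p = 0 :=
      pow_eq_zero_of_le (Fact.out (p := p.Prime)).two_le
        (by rw [pow_two, ← mul_kronecker_mul, vecMulVec_sq h, kronecker_zero])
    rw [Units.val_pow_eq_pow_val, root_val h, add_pow_char_of_commute _ (Commute.one_left _), hsq,
      add_zero, one_pow, Units.val_one]
  -- a maximal `p`-subgroup of the tensor stabiliser containing a root element
  obtain ⟨c₀, ψ₀, hc₀, hψ₀, hcψ₀⟩ : ∃ c ψ : Fin b → F, c ≠ 0 ∧ ψ ≠ 0 ∧ ψ ⬝ᵥ c = 0 := by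
    have : Nontrivial (Fin b) := Fin.nontrivial_iff_two_le.mpr (by omega)
    obtain ⟨j, hj⟩ := exists_ne (0 : Fin b)
    exact ⟨Pi.single 0 1, Pi.single j 1, by simp, by simp, by simp [hj]⟩
  set L := tensSL a b F with hL
  let x₀ : L := ⟨root c₀ ψ₀, root_mem c₀ ψ₀⟩
  have hx₀ : IsPGroup p (Subgroup.zpowers x₀) := by
    rintro ⟨_, n, rfl⟩
    refine ⟨1, Subtype.ext (Subtype.ext ?_)⟩
    show ((root c₀ ψ₀) ^ n) ^ (p ^ 1) = 1
    rw [pow_one, ← zpow_natCast ((root c₀ ψ₀) ^ n), ← _root_.zpow_mul, mul_comm, _root_.zpow_mul,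
      zpow_natCast, hrootp c₀ ψ₀ hcψ₀, _root_.one_zpow]
  obtain ⟨P, hP⟩ := hx₀.exists_le_sylow
  set P' : Subgroup (GL (Idx a b) F) := (P : Subgroup L).map L.subtype with hP'
  have hP'p : IsPGroup p P' := P.2.map _
  have hP'L : P' ≤ L := Subgroup.map_subtype_le _
  have hx₀P : root c₀ ψ₀ ∈ P' := ⟨x₀, hP (Subgroup.mem_zpowers x₀), rfl⟩
  have hP'max : ∀ R : Subgroup (GL (Idx a b) F), IsPGroup p R → P' ≤ R → R ≤ L → R = P' := by
    intro R hR hPR hRL
    have h1 : IsPGroup p (R.subgroupOf L) := hR.comap_subtype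
    have h2 : (P : Subgroup L) ≤ R.subgroupOf L := fun z hz => hPR ⟨z, hz, rfl⟩
    have h3 : R.subgroupOf L = (P : Subgroup L) := P.3 h1 h2
    rw [hP', ← h3, Subgroup.map_subgroupOf_eq_of_le hRL]
  by_cases hQ : ∃ Q : Subgroup (GL (Idx a b) F), Q ≤ M ∧ IsPGroup p Q ∧ P' < Q
  · -- fusion inside a larger `p`-subgroup
    obtain ⟨Q, hQM, hQp, hPQ⟩ := hQ
    have : Finite Q := Subtype.finite
    have hnil := hQp.isNilpotent
    have hlt : P'.subgroupOf Q < Subgroup.normalizer ((P'.subgroupOf Q : Subgroup Q) : Set Q) := by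
      refine Group.normalizerCondition_of_isNilpotent (P'.subgroupOf Q) (lt_top_iff_ne_top.mpr fun h => ?_)
      exact hPQ.not_ge (Subgroup.subgroupOf_eq_top.mp h)
    obtain ⟨⟨y, hyQ⟩, hyN, hyP⟩ := SetLike.exists_of_lt hlt
    have hnorm : ∀ z ∈ P', y * z * y⁻¹ ∈ P' := fun z hz =>
      (Subgroup.mem_normalizer_iff.mp hyN ⟨z, hPQ.le hz⟩).mp hz
    have hyL : y ∉ L := by
      intro hyL
      have hle : Subgroup.closure (insert y (P' : Set (GL (Idx a b) F))) ≤ Q ⊓ L :=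
        (Subgroup.closure_le _).mpr (Set.insert_subset_iff.mpr
          ⟨⟨hyQ, hyL⟩, fun z hz => ⟨hPQ.le hz, hP'L hz⟩⟩)
      have hR := hP'max _ (hQp.to_le (hle.trans inf_le_left))
        (fun z hz => Subgroup.subset_closure (Set.mem_insert_of_mem _ hz)) (hle.trans inf_le_right)
      exact hyP (hR ▸ Subgroup.subset_closure (Set.mem_insert _ _) : y ∈ P')
    have hconj := hnorm _ hx₀P
    obtain ⟨k, hk⟩ := hP'p ⟨_, hconj⟩
    exact fusion y (hQM hyQ) hyL c₀ ψ₀ hc₀ hψ₀ hcψ₀ (hP'L hconj).1 ⟨k, congrArg Subtype.val hk⟩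
  push Not at hQ
  -- now `P'` is a Sylow subgroup of `M`; use a moved pure tensor
  obtain ⟨x₁, y₁, hx₁, hy₁, hfix⟩ := exists_fixed_pure hP'p (fun z hz => (hP'L hz).1)
  by_cases hpres : ∀ x y, IsPure ((g : Matrix (Idx a b) (Idx a b) F) *ᵥ ten x y)
  · obtain ⟨c, c', hc, hc', h⟩ := exists_block_of_preserves ha hab g hpres
    exact ⟨g, hgM, hgL, c, c', hc, hc', h⟩
  push Not at hpres
  obtain ⟨x₂, y₂, hnp⟩ := hpres
  have hx₂ : x₂ ≠ 0 := fun h => hnp ⟨0, 0, by
    rw [h, ten_eq_zero.mpr (Or.inl rfl), mulVec_zero, ten_eq_zero.mpr (Or.inl rfl)]⟩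
  have hy₂ : y₂ ≠ 0 := fun h => hnp ⟨0, 0, by
    rw [h, ten_eq_zero.mpr (Or.inr rfl), mulVec_zero, ten_eq_zero.mpr (Or.inl rfl)]⟩
  obtain ⟨S, hS, kS, hkS, hSx⟩ := exists_move hx₁ hx₂
  obtain ⟨T, hT, kT, hkT, hTy⟩ := exists_move hy₁ hy₂
  -- `h` moves the fixed pure tensor to a non-pure vector
  set h := g * krG (S, T) with hh
  have hhM : h ∈ M := M.mul_mem hgM (hLM (krG_mem_tensSL hS hT))
  set v := (h : Matrix (Idx a b) (Idx a b) F) *ᵥ ten x₁ y₁ with hv
  have hvnp : ¬ IsPure v := by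
    rintro ⟨x, y, he⟩
    refine hnp ⟨(kS * kT)⁻¹ • x, y, ?_⟩
    rw [hv, hh, Units.val_mul, ← mulVec_mulVec, krG_val, kron_mulVec_ten, hSx, hTy, ten_smul_left,
      ten_smul_right, smul_smul, mulVec_smul] at he
    rw [ten_smul_left, ← he, smul_smul, inv_mul_cancel₀ (mul_ne_zero hkS hkT), one_smul]
  -- a root element fixing it
  obtain ⟨ψ, hψ, hψv⟩ : ∃ ψ : Fin b → F, ψ ≠ 0 ∧ ∀ i, ψ ⬝ᵥ (fun k => v (i, k)) = 0 := by
    let f : (Fin b → F) →ₗ[F] (Fin a → F) :=
      { toFun := fun ψ i => ψ ⬝ᵥ fun k => v (i, k)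
        map_add' := fun ψ φ => by funext i; exact add_dotProduct ψ φ _
        map_smul' := fun c ψ => by funext i; exact smul_dotProduct c ψ _ }
    have hker : LinearMap.ker f ≠ ⊥ := LinearMap.ker_ne_bot_of_finrank_lt (by
      rw [Module.finrank_fin_fun, Module.finrank_fin_fun]; exact hab)
    obtain ⟨ψ, hψ, hψ0⟩ := Submodule.exists_mem_ne_zero_of_ne_bot hker
    exact ⟨ψ, hψ0, fun i => congrFun hψ i⟩
  obtain ⟨c, hc, hcψ⟩ : ∃ c : Fin b → F, c ≠ 0 ∧ ψ ⬝ᵥ c = 0 := by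
    let f : (Fin b → F) →ₗ[F] (Fin 1 → F) :=
      { toFun := fun c _ => ψ ⬝ᵥ c
        map_add' := fun c d => by funext i; exact dotProduct_add ψ c d
        map_smul' := fun k c => by funext i; exact dotProduct_smul k ψ c }
    have hker : LinearMap.ker f ≠ ⊥ := LinearMap.ker_ne_bot_of_finrank_lt (by
      rw [Module.finrank_fin_fun, Module.finrank_fin_fun]; omega)
    obtain ⟨c, hc, hc0⟩ := Submodule.exists_mem_ne_zero_of_ne_bot hker
    exact ⟨c, hc0, congrFun hc 0⟩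
  have hrv : (root (a := a) c ψ : Matrix (Idx a b) (Idx a b) F) *ᵥ v = v := by
    rw [root_val hcψ, add_mulVec, one_mulVec, one_kron_vecMulVec_mulVec, add_eq_left, ten_eq_zero]
    exact Or.inl (funext hψv)
  -- the stabiliser of `ten x₁ y₁` in `M`
  let Mw : Subgroup (GL (Idx a b) F) :=
    { carrier := {z | z ∈ M ∧ (z : Matrix (Idx a b) (Idx a b) F) *ᵥ ten x₁ y₁ = ten x₁ y₁}
      one_mem' := ⟨M.one_mem, by rw [Units.val_one, one_mulVec]⟩
      mul_mem' := fun {z w} hz hw =>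
        ⟨M.mul_mem hz.1 hw.1, by rw [Units.val_mul, ← mulVec_mulVec, hw.2, hz.2]⟩
      inv_mem' := fun {z} hz => ⟨M.inv_mem hz.1, by
        conv_lhs => rw [← hz.2]
        rw [mulVec_mulVec, Units.inv_mul, one_mulVec]⟩ }
  have hzmem : h⁻¹ * root c ψ * h ∈ Mw := by
    refine ⟨M.mul_mem (M.mul_mem (M.inv_mem hhM) (hLM (root_mem c ψ))) hhM, ?_⟩
    rw [Units.val_mul, Units.val_mul, ← mulVec_mulVec, ← mulVec_mulVec, ← hv, hrv, hv, mulVec_mulVec,
      Units.inv_mul, one_mulVec]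
  have hP'Mw : P' ≤ Mw := fun z hz => ⟨hLM (hP'L hz), hfix z hz⟩
  let S₁ : Sylow p Mw := ⟨P'.subgroupOf Mw, hP'p.comap_subtype, by
    intro R hR hle
    have h1 : IsPGroup p (R.map Mw.subtype) := hR.map _
    have h2 : P' ≤ R.map Mw.subtype := by
      rw [← Subgroup.map_subgroupOf_eq_of_le hP'Mw]; exact Subgroup.map_mono hle
    have h3 : ¬ P' < R.map Mw.subtype :=
      hQ _ ((Subgroup.map_subtype_le _).trans (fun z hz => hz.1)) h1
    have h4 : R.map Mw.subtype = P' := (eq_of_le_of_not_lt h2 h3).symm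
    show R = P'.subgroupOf Mw
    rw [← h4, Subgroup.subgroupOf, Subgroup.comap_map_eq_self_of_injective Mw.subtype_injective]⟩
  let z : Mw := ⟨_, hzmem⟩
  have hzp : IsPGroup p (Subgroup.zpowers z) := by
    have hz1 : z ^ p = 1 := Subtype.ext (by
      show (h⁻¹ * root c ψ * h) ^ p = 1
      have := conj_pow (i := p) (a := h⁻¹) (b := root (a := a) c ψ)
      rw [inv_inv] at this
      rw [this, hrootp c ψ hcψ, mul_one, inv_mul_cancel])
    rintro ⟨_, n, rfl⟩
    refine ⟨1, Subtype.ext ?_⟩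
    show (z ^ n) ^ (p ^ 1) = 1
    rw [pow_one, ← zpow_natCast (z ^ n), ← _root_.zpow_mul, mul_comm, _root_.zpow_mul, zpow_natCast, hz1,
      _root_.one_zpow]
  obtain ⟨S₂, hS₂⟩ := hzp.exists_le_sylow
  obtain ⟨k, hk⟩ := MulAction.exists_smul_eq Mw S₂ S₁
  have hkz : k * z * k⁻¹ ∈ (S₁ : Subgroup Mw) := by
    rw [← hk, Sylow.coe_subgroup_smul]
    exact ⟨z, hS₂ (Subgroup.mem_zpowers z), rfl⟩
  have hconj : ((k : GL (Idx a b) F) * h⁻¹) * root c ψ * ((k : GL (Idx a b) F) * h⁻¹)⁻¹ ∈ P' := by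
    have h' : ((k * z * k⁻¹ : Mw) : GL (Idx a b) F) ∈ P' := hkz
    convert h' using 1
    simp only [Subgroup.coe_mul, Subgroup.coe_inv, z]
    group
  obtain ⟨i, hi⟩ := hP'p ⟨_, hconj⟩
  refine fusion _ (M.mul_mem k.2.1 (M.inv_mem hhM)) (fun hyL => hvnp ?_) c ψ hc hψ hcψ (hP'L hconj).1
    ⟨i, congrArg Subtype.val hi⟩
  obtain ⟨S', T', he⟩ := (L.inv_mem hyL).1
  have hk1 : ((k⁻¹ : Mw) : GL (Idx a b) F).val *ᵥ ten x₁ y₁ = ten x₁ y₁ := (k⁻¹).2.2
  have hhk : h = ((k : GL (Idx a b) F) * h⁻¹)⁻¹ * (k : GL (Idx a b) F) := by group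
  refine ⟨(S' : Matrix (Fin a) (Fin a) F) *ᵥ x₁, (T' : Matrix (Fin b) (Fin b) F) *ᵥ y₁, ?_⟩
  rw [hv, hhk, Units.val_mul, ← mulVec_mulVec, k.2.2, he, kron_mulVec_ten]

end CfsgLib.TensorMax
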