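import Cfsg.Prelude.Def_GeometricClasses
import Cfsg.Agent.MaxSub.Transvection

/-!
# Kronecker products on `F^(a × b)`: pure tensors, root elements and transitivity
-/

set_option autoImplicit false
set_option linter.unusedSectionVars false

namespace CfsgLib.TensorMax

open Matrix Cfsg.Geo CfsgLib.MaxSub
open scoped Kronecker

variable {F : Type*} [Field F] {a b : ℕ}

/-- Index type of the tensor product. -/
abbrev Idx (a b : ℕ) : Type := Fin a × Fin b

/-- The pure tensor of two vectors. -/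
def ten (x : Fin a → F) (y : Fin b → F) : Idx a b → F := fun p => x p.1 * y p.2

theorem ten_dot (f x : Fin a → F) (φ y : Fin b → F) :
    ten f φ ⬝ᵥ ten x y = (f ⬝ᵥ x) * (φ ⬝ᵥ y) := by
  simp only [dotProduct, ten, Fintype.sum_prod_type, Finset.sum_mul_sum]
  exact Finset.sum_congr rfl fun i _ => Finset.sum_congr rfl fun j _ => by ring

theorem kron_mulVec_ten (A : Matrix (Fin a) (Fin a) F) (B : Matrix (Fin b) (Fin b) F)
    (x : Fin a → F) (y : Fin b → F) : (A ⊗ₖ B) *ᵥ ten x y = ten (A *ᵥ x) (B *ᵥ y) := by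
  funext p
  simp only [mulVec, dotProduct, ten, kroneckerMap_apply, Fintype.sum_prod_type, Finset.sum_mul_sum]
  exact Finset.sum_congr rfl fun i _ => Finset.sum_congr rfl fun j _ => by ring

theorem ten_vecMul_kron (A : Matrix (Fin a) (Fin a) F) (B : Matrix (Fin b) (Fin b) F)
    (x : Fin a → F) (y : Fin b → F) : ten x y ᵥ* (A ⊗ₖ B) = ten (x ᵥ* A) (y ᵥ* B) := by
  funext p
  simp only [vecMul, dotProduct, ten, kroneckerMap_apply, Fintype.sum_prod_type, Finset.sum_mul_sum]
  exact Finset.sum_congr rfl fun i _ => Finset.sum_congr rfl fun j _ => by ring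

theorem ten_eq_zero {x : Fin a → F} {y : Fin b → F} : ten x y = 0 ↔ x = 0 ∨ y = 0 := by
  refine ⟨fun h => ?_, fun h => ?_⟩
  · by_contra hc
    push Not at hc
    obtain ⟨i, hi⟩ := Function.ne_iff.mp hc.1
    obtain ⟨j, hj⟩ := Function.ne_iff.mp hc.2
    exact mul_ne_zero hi hj (congrFun h (i, j))
  · rcases h with rfl | rfl <;> funext p <;> simp [ten]

theorem ten_add_left (x x' : Fin a → F) (y : Fin b → F) : ten (x + x') y = ten x y + ten x' y := by
  funext p; simp [ten, add_mul]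

theorem ten_add_right (x : Fin a → F) (y y' : Fin b → F) : ten x (y + y') = ten x y + ten x y' := by
  funext p; simp [ten, mul_add]

theorem ten_smul_left (c : F) (x : Fin a → F) (y : Fin b → F) : ten (c • x) y = c • ten x y := by
  funext p; simp [ten, mul_assoc]

theorem ten_smul_right (c : F) (x : Fin a → F) (y : Fin b → F) : ten x (c • y) = c • ten x y := by
  funext p; simp [ten, mul_left_comm]

theorem ten_inj_left {x x' : Fin a → F} {y : Fin b → F} (hy : y ≠ 0) (h : ten x y = ten x' y) :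
    x = x' := by
  obtain ⟨j, hj⟩ := Function.ne_iff.mp hy
  funext i
  exact mul_right_cancel₀ hj (congrFun h (i, j))

theorem ten_inj_right {x : Fin a → F} {y y' : Fin b → F} (hx : x ≠ 0) (h : ten x y = ten x y') :
    y = y' := by
  obtain ⟨i, hi⟩ := Function.ne_iff.mp hx
  funext j
  exact mul_left_cancel₀ hi (congrFun h (i, j))

/-- The Kronecker product of invertible matrices. -/
def krG : GL (Fin a) F × GL (Fin b) F →* GL (Idx a b) F where
  toFun p :=
    { val := (p.1 : Matrix (Fin a) (Fin a) F) ⊗ₖ (p.2 : Matrix (Fin b) (Fin b) F)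
      inv := ((p.1⁻¹ : GL (Fin a) F) : Matrix (Fin a) (Fin a) F) ⊗ₖ
        ((p.2⁻¹ : GL (Fin b) F) : Matrix (Fin b) (Fin b) F)
      val_inv := by
        rw [← mul_kronecker_mul, Units.mul_inv, Units.mul_inv, one_kronecker_one]
      inv_val := by
        rw [← mul_kronecker_mul, Units.inv_mul, Units.inv_mul, one_kronecker_one] }
  map_one' := Units.ext (by simp)
  map_mul' p q := Units.ext (by simp [mul_kronecker_mul])

theorem krG_val (S : GL (Fin a) F) (T : GL (Fin b) F) :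
    (krG (S, T) : Matrix (Idx a b) (Idx a b) F)
      = (S : Matrix (Fin a) (Fin a) F) ⊗ₖ (T : Matrix (Fin b) (Fin b) F) := rfl

/-- The tensor stabiliser inside the special linear group. -/
def tensSL (a b : ℕ) (F : Type*) [Field F] : Subgroup (GL (Idx a b) F) :=
  kroneckerSubgroup a b F ⊓ specialLinear (Idx a b) F

theorem mem_kroneckerSubgroup_iff {g : GL (Idx a b) F} :
    g ∈ kroneckerSubgroup a b F ↔ ∃ S T, g = krG (S, T) :=
  ⟨fun ⟨S, T, h⟩ => ⟨S, T, Units.ext h⟩, fun ⟨S, T, h⟩ => ⟨S, T, by rw [h]; rfl⟩⟩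

theorem mem_specialLinear_iff {ι : Type} [Fintype ι] [DecidableEq ι] {g : GL ι F} :
    g ∈ specialLinear ι F ↔ (g : Matrix ι ι F).det = 1 := by
  rw [specialLinear, MonoidHom.mem_ker, Units.ext_iff, Matrix.GeneralLinearGroup.val_det_apply,
    Units.val_one]

theorem krG_mem_tensSL {S : GL (Fin a) F} {T : GL (Fin b) F} (hS : S ∈ specialLinear (Fin a) F)
    (hT : T ∈ specialLinear (Fin b) F) : krG (S, T) ∈ tensSL a b F := by
  refine ⟨⟨S, T, rfl⟩, ?_⟩
  rw [mem_specialLinear_iff] at hS hT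
  show krG (S, T) ∈ specialLinear (Idx a b) F
  rw [mem_specialLinear_iff, krG_val, Matrix.det_kronecker, hS, hT, one_pow, one_pow, one_mul]

/-- The root element `1 ⊗ (1 + c ψ)`. -/
noncomputable def root (c ψ : Fin b → F) : GL (Idx a b) F := krG ((1 : GL (Fin a) F), tv c ψ)

theorem root_mem (c ψ : Fin b → F) : root (a := a) c ψ ∈ tensSL a b F :=
  krG_mem_tensSL (Subgroup.one_mem _) (tv_mem_specialLinear _ _)

theorem root_val {c ψ : Fin b → F} (h : ψ ⬝ᵥ c = 0) :
    (root (a := a) c ψ : Matrix (Idx a b) (Idx a b) F)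
      = 1 + (1 : Matrix (Fin a) (Fin a) F) ⊗ₖ vecMulVec c ψ := by
  rw [root, krG_val, Units.val_one, tv_coe h, kronecker_add, one_kronecker_one]

/-- Any non-zero vector is carried to a multiple of any other by a special linear element. -/
theorem exists_move {n : ℕ} {u u' : Fin n → F} (hu : u ≠ 0) (hu' : u' ≠ 0) :
    ∃ S ∈ specialLinear (Fin n) F, ∃ k : F, k ≠ 0 ∧
      (S : Matrix (Fin n) (Fin n) F) *ᵥ u = k • u' := by
  by_cases h : ∃ k : F, k • u' = u
  · obtain ⟨k, hk⟩ := h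
    refine ⟨1, Subgroup.one_mem _, k, ?_, by rw [Units.val_one, one_mulVec, hk]⟩
    rintro rfl
    exact hu (by simpa using hk.symm)
  push Not at h
  obtain ⟨f, hf, hf'⟩ := exists_dot_eq_zero_one (a := u' - u) (b := u) (fun k hk => by
    rcases eq_or_ne k 0 with rfl | hk0
    · exact hu (by simpa using hk.symm)
    · apply h ((1 + k)⁻¹ * k)
      have e : k • u' = (1 + k) • u := by
        rw [smul_sub, sub_eq_iff_eq_add] at hk
        rw [hk, add_smul, one_smul]
      have h1 : 1 + k ≠ 0 := fun h1 => by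
        rw [h1, zero_smul] at e
        exact hu' ((smul_eq_zero.mp e).resolve_left hk0)
      rw [mul_smul, e, smul_smul, inv_mul_cancel₀ h1, one_smul])
  refine ⟨tv (u' - u) f, tv_mem_specialLinear _ _, 1, one_ne_zero, ?_⟩
  rw [tv_mulVec (by rwa [dotProduct_comm]), dotProduct_comm f u, hf', one_smul, one_smul]
  abel

/-- Any incident pair (vector, covector) is carried to multiples of any other. -/
theorem exists_move_pair {n : ℕ} {u u' f f' : Fin n → F} (hu : u ≠ 0) (hu' : u' ≠ 0) (hf : f ≠ 0)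
    (hf' : f' ≠ 0) (hfu : f ⬝ᵥ u = 0) (hfu' : f' ⬝ᵥ u' = 0) :
    ∃ S ∈ specialLinear (Fin n) F, ∃ k l : F, k ≠ 0 ∧ l ≠ 0 ∧
      (S : Matrix (Fin n) (Fin n) F) *ᵥ u = k • u' ∧
      f ᵥ* ((S⁻¹ : GL (Fin n) F) : Matrix (Fin n) (Fin n) F) = l • f' := by
  obtain ⟨S, hS, k, hk, hSu⟩ := exists_move hu hu'
  set f₁ := f ᵥ* ((S⁻¹ : GL (Fin n) F) : Matrix (Fin n) (Fin n) F) with hf₁
  have hf₁u : f₁ ⬝ᵥ u' = 0 := by
    have := dot_conj S f u
    rw [← hf₁, hSu, hfu, dotProduct_smul, smul_eq_mul] at this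
    exact (mul_eq_zero.mp this).resolve_left hk
  by_cases h : ∃ l : F, l • f' = f₁
  · obtain ⟨l, hl⟩ := h
    refine ⟨S, hS, k, l, hk, ?_, hSu, hl.symm⟩
    rintro rfl
    apply hf
    rw [zero_smul] at hl
    have := congrArg (· ᵥ* (S : Matrix (Fin n) (Fin n) F)) hl
    simp only [hf₁, zero_vecMul, vecMul_vecMul, Units.inv_mul, vecMul_one] at this
    exact this.symm
  push Not at h
  obtain ⟨w, hw, hw'⟩ := exists_dot_eq_zero_one (a := f₁ - f') (b := f₁) (fun k' hk' => by
    rcases eq_or_ne k' 0 with rfl | hk0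
    · exact h 0 (by simpa using hk')
    · rw [smul_sub, sub_eq_iff_eq_add] at hk'
      have e : (k' - 1) • f₁ = k' • f' := by
        rw [sub_smul, one_smul, hk']; abel
      rcases eq_or_ne (k' - 1) 0 with h1 | h1
      · rw [h1, zero_smul] at e
        exact hf' ((smul_eq_zero.mp e.symm).resolve_left hk0)
      · apply h ((k' - 1)⁻¹ * k')
        rw [mul_smul, ← e, smul_smul, inv_mul_cancel₀ h1, one_smul])
  have hU : (f₁ - f') ⬝ᵥ w = 0 := hw
  refine ⟨tv w (f₁ - f') * S, Subgroup.mul_mem _ (tv_mem_specialLinear _ _) hS, k, 1, hk, one_ne_zero,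
    ?_, ?_⟩
  · rw [Units.val_mul, ← mulVec_mulVec, hSu, mulVec_smul, tv_mulVec hU, sub_dotProduct, hf₁u, hfu',
      sub_zero, zero_smul, add_zero]
  · rw [_root_.mul_inv_rev, Units.val_mul, ← vecMul_vecMul, ← hf₁, tv_inv,
      vecMul_tv (by rw [dotProduct_neg, hU, neg_zero]), dotProduct_neg, hw', one_smul, neg_smul, one_smul]
    abel

/-- `v` is a pure tensor. -/
def IsPure (v : Idx a b → F) : Prop := ∃ x y, v = ten x y

theorem exists_minor {n : ℕ} {x₁ x₂ : Fin n → F} (h1 : x₁ ≠ 0) (h : ¬ ∃ k : F, k • x₁ = x₂) :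
    ∃ i j, x₁ i * x₂ j - x₁ j * x₂ i ≠ 0 := by
  obtain ⟨i, hi⟩ := Function.ne_iff.mp h1
  by_contra hc
  push Not at hc
  refine h ⟨x₂ i / x₁ i, ?_⟩
  funext j
  rw [Pi.smul_apply, smul_eq_mul, div_mul_eq_mul_div, div_eq_iff hi]
  linear_combination -(hc i j)

/-- If a sum of two pure tensors is pure, two of the factors are dependent. -/
theorem dependent_of_pure_add {x₁ x₂ : Fin a → F} {y₁ y₂ : Fin b → F} (hx : x₁ ≠ 0) (hy : y₁ ≠ 0)
    (hpure : IsPure (ten x₁ y₁ + ten x₂ y₂)) :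
    (∃ k : F, k • x₁ = x₂) ∨ ∃ k : F, k • y₁ = y₂ := by
  obtain ⟨x, y, h⟩ := hpure
  by_contra hc
  rw [not_or] at hc
  obtain ⟨i, j, hij⟩ := exists_minor hx hc.1
  obtain ⟨k, l, hkl⟩ := exists_minor hy hc.2
  have e : ∀ p q, x p * y q = x₁ p * y₁ q + x₂ p * y₂ q := fun p q => (congrFun h (p, q)).symm
  apply mul_ne_zero hij hkl
  linear_combination -(x j * y l) * e i k + (-(x₁ i * y₁ k) - x₂ i * y₂ k) * e j l
    + (x j * y k) * e i l + (x₁ i * y₁ l + x₂ i * y₂ l) * e j k

end CfsgLib.TensorMax
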