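import Cfsg.Agent.TensorMax.Main

/-!
# Maximality of stabilisers of tensor decompositions
-/

set_option autoImplicit false

namespace CfsgLib.TensorMax

open Matrix Cfsg.Geo CfsgLib.MaxSub

/-- Maximality is preserved by isomorphisms. -/
theorem isMaximalIn_map {G G' : Type*} [Group G] [Group G'] (φ : G ≃* G') {K H : Subgroup G}
    (h : IsMaximalIn K H) : IsMaximalIn (K.map φ.toMonoidHom) (H.map φ.toMonoidHom) := by
  have hinj : Function.Injective φ.toMonoidHom := φ.injective
  refine ⟨(Subgroup.map_lt_map_iff_of_injective hinj).mpr h.1, fun M hHM hMK => ?_⟩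
  have e : (M.comap φ.toMonoidHom).map φ.toMonoidHom = M :=
    Subgroup.map_comap_eq_self_of_surjective φ.surjective M
  rcases h.2 (M.comap φ.toMonoidHom) (Subgroup.map_le_iff_le_comap.mp hHM) (by
      have := Subgroup.comap_mono (f := φ.toMonoidHom) hMK
      rwa [Subgroup.comap_map_eq_self_of_injective hinj] at this) with h1 | h1
  · exact Or.inl (by rw [← e, h1])
  · exact Or.inr (by rw [← e, h1])

variable {ι : Type} [Fintype ι] [DecidableEq ι] {F : Type*} [Field F] {a b : ℕ}

/-- The stabiliser of a tensor decomposition `a ⊗ b` with `a < b`, `(a, q) ≠ (2, 2)` is maximal in the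
special linear group. -/
theorem isMaximalIn_tensorProduct [Finite F] (ha : 2 ≤ a) (hab : a < b) (hex : 3 ≤ a ∨ 3 ≤ Nat.card F)
    (e : ι ≃ Fin a × Fin b) (P : GL ι F) :
    IsMaximalIn (specialLinear ι F) (tensorProductSubgroup a b e P ⊓ specialLinear ι F) := by
  let φ : GL (Idx a b) F ≃* GL ι F := (glReindex e.symm).trans (MulAut.conj P)
  have hdet : ∀ g, Matrix.GeneralLinearGroup.det (φ g) = Matrix.GeneralLinearGroup.det g := by
    intro g
    show Matrix.GeneralLinearGroup.det (P * glReindex e.symm g * P⁻¹) = _
    rw [map_mul, map_mul, map_inv, mul_comm (Matrix.GeneralLinearGroup.det P), mul_inv_cancel_right]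
    apply Units.ext
    simp only [Matrix.GeneralLinearGroup.val_det_apply]
    exact Matrix.det_reindex_self e.symm _
  have hSL : (specialLinear (Idx a b) F).map φ.toMonoidHom = specialLinear ι F := by
    ext g
    constructor
    · rintro ⟨h, hh, rfl⟩
      show Matrix.GeneralLinearGroup.det (φ h) = 1
      rw [hdet]; exact hh
    · intro hg
      refine ⟨φ.symm g, ?_, φ.apply_symm_apply g⟩
      show Matrix.GeneralLinearGroup.det (φ.symm g) = 1
      rw [← hdet, φ.apply_symm_apply]; exact hg
  have hK : (kroneckerSubgroup a b F).map φ.toMonoidHom = tensorProductSubgroup a b e P := by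
    rw [tensorProductSubgroup, Subgroup.map_map]
    rfl
  have h := isMaximalIn_map φ (isMaximalIn_tensSL ha hab hex)
  rwa [tensSL, Subgroup.map_inf _ _ _ φ.injective, hSL, hK] at h

end CfsgLib.TensorMax
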