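import Cfsg.Agent.TensorMax.Basic

/-!
# Block matrices on `F^(a × b)` and the unipotent radical of the stabiliser of `F^a ⊗ e₀`
-/

set_option autoImplicit false
set_option linter.unusedSectionVars false

namespace CfsgLib.TensorMax

open Matrix Cfsg.Geo CfsgLib.MaxSub
open scoped Kronecker

variable {F : Type*} [Field F] {a b m : ℕ}

/-- The block `(j, l)`. -/
def blk (Y : Matrix (Idx a b) (Idx a b) F) (j l : Fin b) : Matrix (Fin a) (Fin a) F :=
  Matrix.of fun i k => Y (i, j) (k, l)

theorem blk_ext {Y Z : Matrix (Idx a b) (Idx a b) F} (h : ∀ j l, blk Y j l = blk Z j l) : Y = Z := by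
  ext ⟨i, j⟩ ⟨k, l⟩
  exact congrFun (congrFun (h j l) i) k

theorem blk_mul (Y Z : Matrix (Idx a b) (Idx a b) F) (j l : Fin b) :
    blk (Y * Z) j l = ∑ s, blk Y j s * blk Z s l := by
  ext i k
  simp only [blk, Matrix.of_apply, mul_apply, Fintype.sum_prod_type, Matrix.sum_apply]
  exact Finset.sum_comm

theorem blk_add (Y Z : Matrix (Idx a b) (Idx a b) F) (j l : Fin b) :
    blk (Y + Z) j l = blk Y j l + blk Z j l := rfl

theorem blk_kron (A : Matrix (Fin a) (Fin a) F) (B : Matrix (Fin b) (Fin b) F) (j l : Fin b) :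
    blk (A ⊗ₖ B) j l = B j l • A := by
  ext i k
  simp [blk, mul_comm]

theorem blk_one (j l : Fin b) :
    blk (1 : Matrix (Idx a b) (Idx a b) F) j l = if j = l then 1 else 0 := by
  rw [← one_kronecker_one, blk_kron, one_apply]
  split_ifs <;> simp

/-- The nilpotent matrix with blocks `X t` in row `0` and column `t + 1`. -/
def rowMat (X : Fin m → Matrix (Fin a) (Fin a) F) : Matrix (Idx a (m + 1)) (Idx a (m + 1)) F :=
  Matrix.of fun p q => if p.2 = 0 then Fin.cases (0 : F) (fun t => X t p.1 q.1) q.2 else 0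

theorem blk_rowMat_zero (X : Fin m → Matrix (Fin a) (Fin a) F) (j : Fin (m + 1)) :
    blk (rowMat X) j 0 = 0 := by
  ext i k
  simp [blk, rowMat]

theorem blk_rowMat_succ (X : Fin m → Matrix (Fin a) (Fin a) F) (j : Fin (m + 1)) (t : Fin m) :
    blk (rowMat X) j t.succ = if j = 0 then X t else 0 := by
  ext i k
  split_ifs with h <;> simp [blk, rowMat, h]

theorem blk_rowMat_ne (X : Fin m → Matrix (Fin a) (Fin a) F) {j : Fin (m + 1)} (hj : j ≠ 0)
    (l : Fin (m + 1)) : blk (rowMat X) j l = 0 := by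
  ext i k
  simp [blk, rowMat, hj]

theorem rowMat_mul_rowMat (X Y : Fin m → Matrix (Fin a) (Fin a) F) : rowMat X * rowMat Y = 0 := by
  refine blk_ext fun j l => ?_
  rw [blk_mul]
  refine Eq.trans (Finset.sum_eq_zero fun s _ => ?_) (by ext; simp [blk])
  cases s using Fin.cases with
  | zero => rw [blk_rowMat_zero, zero_mul]
  | succ s => rw [blk_rowMat_ne Y (Fin.succ_ne_zero s), mul_zero]

theorem rowMat_add (X Y : Fin m → Matrix (Fin a) (Fin a) F) : rowMat (X + Y) = rowMat X + rowMat Y := by
  refine blk_ext fun j l => ?_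
  rw [blk_add]
  cases l using Fin.cases with
  | zero => rw [blk_rowMat_zero, blk_rowMat_zero, blk_rowMat_zero, add_zero]
  | succ t => simp only [blk_rowMat_succ, Pi.add_apply]; split_ifs <;> simp

theorem rowMat_zero : rowMat (0 : Fin m → Matrix (Fin a) (Fin a) F) = 0 := by
  ext p q
  simp only [rowMat, Matrix.of_apply, Pi.zero_apply, Matrix.zero_apply]
  split_ifs
  · cases q.2 using Fin.cases <;> rfl
  · rfl

/-- The element `1 + rowMat X`. -/
def rowU (X : Fin m → Matrix (Fin a) (Fin a) F) : GL (Idx a (m + 1)) F where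
  val := 1 + rowMat X
  inv := 1 + rowMat (-X)
  val_inv := by
    rw [mul_add, mul_one, add_mul, one_mul, rowMat_mul_rowMat, add_zero, add_assoc, ← rowMat_add,
      add_neg_cancel, rowMat_zero, add_zero]
  inv_val := by
    rw [mul_add, mul_one, add_mul, one_mul, rowMat_mul_rowMat, add_zero, add_assoc, ← rowMat_add,
      neg_add_cancel, rowMat_zero, add_zero]

theorem rowU_val (X : Fin m → Matrix (Fin a) (Fin a) F) :
    (rowU X : Matrix (Idx a (m + 1)) (Idx a (m + 1)) F) = 1 + rowMat X := rfl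

theorem rowU_add (X Y : Fin m → Matrix (Fin a) (Fin a) F) : rowU (X + Y) = rowU X * rowU Y := by
  apply Units.ext
  rw [Units.val_mul, rowU_val, rowU_val, rowU_val, mul_add, mul_one, add_mul, one_mul,
    rowMat_mul_rowMat, add_zero, rowMat_add, add_assoc]

theorem rowU_zero : rowU (0 : Fin m → Matrix (Fin a) (Fin a) F) = 1 :=
  Units.ext (by rw [rowU_val, rowMat_zero, add_zero, Units.val_one])

theorem rowU_neg (X : Fin m → Matrix (Fin a) (Fin a) F) : rowU (-X) = (rowU X)⁻¹ :=
  eq_inv_of_mul_eq_one_left (by rw [← rowU_add, neg_add_cancel, rowU_zero])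

/-- `1 ⊗ (1 + e₀ ψ)` with `ψ 0 = 0` has scalar blocks. -/
theorem root_eq_rowU (φ : Fin m → F) :
    root (a := a) (Pi.single 0 1) (Fin.cases (0 : F) φ) = rowU (fun t => φ t • 1) := by
  apply Units.ext
  rw [root_val (by simp), rowU_val]
  congr 1
  refine blk_ext fun j l => ?_
  rw [blk_kron, vecMulVec_apply]
  cases l using Fin.cases with
  | zero => simp [blk_rowMat_zero]
  | succ t =>
    rw [blk_rowMat_succ]
    split_ifs with h <;> simp [h]

/-- A single block with a rank one matrix is a transvection. -/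
theorem rowU_single_vecMulVec (t : Fin m) (u f : Fin a → F) (h : f ⬝ᵥ u = 0) :
    rowU (Pi.single t (vecMulVec u f)) = tv (ten u (Pi.single 0 1)) (ten f (Pi.single t.succ 1)) := by
  apply Units.ext
  rw [rowU_val, tv_coe (by rw [ten_dot, h, zero_mul])]
  congr 1
  ext ⟨i, j⟩ ⟨k, l⟩
  simp only [rowMat, Matrix.of_apply, vecMulVec_apply, ten]
  cases l using Fin.cases with
  | zero => simp [(Fin.succ_ne_zero t).symm]
  | succ s =>
    rcases eq_or_ne j 0 with rfl | hj
    · rcases eq_or_ne s t with rfl | hs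
      · simp [vecMulVec_apply]
      · simp [hs]
    · simp [hj]

theorem rowU_mem_specialLinear {p : ℕ} [Fact p.Prime] [CharP F p]
    (X : Fin m → Matrix (Fin a) (Fin a) F) : rowU X ∈ specialLinear (Idx a (m + 1)) F := by
  have h : rowU X ^ p = 1 := by
    have hk : ∀ k : ℕ, rowU X ^ k = rowU (k • X) := by
      intro k
      induction k with
      | zero => rw [pow_zero, zero_smul, rowU_zero]
      | succ k ih => rw [pow_succ, ih, succ_nsmul, rowU_add]
    rw [hk]
    convert rowU_zero using 2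
    funext t
    ext i j
    simp [CharP.cast_eq_zero]
  rw [mem_specialLinear_iff]
  have h' := congrArg (fun u : GL (Idx a (m + 1)) F => (u : Matrix (Idx a (m + 1)) (Idx a (m + 1)) F).det) h
  simp only [Units.val_pow_eq_pow_val, det_pow, Units.val_one, det_one] at h'
  exact frobenius_inj F p (by simpa [frobenius_def] using h')

/-- Conjugation by `1 ⊗ T` where `T` fixes the first basis vector and row. -/
theorem conj_rowU {S : GL (Fin a) F} {T : GL (Fin (m + 1)) F} {X X' : Fin m → Matrix (Fin a) (Fin a) F}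
    (hT00 : (T : Matrix (Fin (m + 1)) (Fin (m + 1)) F) 0 0 = 1)
    (hT0 : ∀ s : Fin m, (T : Matrix (Fin (m + 1)) (Fin (m + 1)) F) s.succ 0 = 0)
    (h : ∀ t : Fin m, (S : Matrix (Fin a) (Fin a) F) * X t
      = ∑ s : Fin m, (T : Matrix (Fin (m + 1)) (Fin (m + 1)) F) s.succ t.succ • (X' s * (S : Matrix (Fin a) (Fin a) F))) :
    krG (S, T) * rowU X * (krG (S, T))⁻¹ = rowU X' := by
  rw [mul_inv_eq_iff_eq_mul]
  apply Units.ext
  rw [Units.val_mul, Units.val_mul, rowU_val, rowU_val, krG_val, mul_add, add_mul, mul_one, one_mul]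
  congr 1
  refine blk_ext fun j l => ?_
  rw [blk_mul, blk_mul, Fin.sum_univ_succ, Fin.sum_univ_succ, blk_rowMat_zero, zero_mul, zero_add,
    Finset.sum_eq_zero (fun s _ => by rw [blk_rowMat_ne X (Fin.succ_ne_zero s), mul_zero]), add_zero,
    blk_kron]
  cases l using Fin.cases with
  | zero =>
    rw [blk_rowMat_zero, mul_zero, Finset.sum_eq_zero (fun s _ => by rw [blk_kron, hT0, zero_smul, mul_zero])]
  | succ t =>
    simp only [blk_rowMat_succ, if_pos, blk_kron]
    cases j using Fin.cases with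
    | zero =>
      rw [hT00, one_smul, h t]
      exact Finset.sum_congr rfl fun s _ => by rw [if_pos rfl, mul_smul_comm]
    | succ j =>
      rw [hT0, zero_smul, zero_mul]
      exact (Finset.sum_eq_zero fun s _ => by rw [if_neg (Fin.succ_ne_zero j), zero_mul]).symm

end CfsgLib.TensorMax
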