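import Cfsg.Agent.TensorMax.Reduce
import Cfsg.Agent.TensorMax.Blocks

/-!
# Maximality of tensor stabilisers in special linear groups
-/

set_option autoImplicit false
set_option linter.unusedSectionVars false

namespace CfsgLib.TensorMax

open Matrix Cfsg.Geo CfsgLib.MaxSub
open scoped Kronecker

variable {F : Type*} [Field F] {a b m : ℕ}

/-- A conjugation invariant subspace of matrices with a non-scalar element contains a non-zero nilpotent
matrix of rank one, provided `a ≥ 3` or `|F| ≥ 3`. -/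
theorem exists_rank_one (hex : 3 ≤ a ∨ ∃ s : F, s ≠ 0 ∧ s ≠ 1)
    (U : Submodule F (Matrix (Fin a) (Fin a) F))
    (hU : ∀ S ∈ specialLinear (Fin a) F, ∀ X ∈ U,
      (S : Matrix (Fin a) (Fin a) F) * X * ((S⁻¹ : GL (Fin a) F) : Matrix (Fin a) (Fin a) F) ∈ U)
    {X : Matrix (Fin a) (Fin a) F} (hX : X ∈ U) (hns : ∀ k : F, X ≠ k • 1) :
    ∃ u f : Fin a → F, u ≠ 0 ∧ f ≠ 0 ∧ f ⬝ᵥ u = 0 ∧ vecMulVec u f ∈ U := by
  have hD : ∀ X ∈ U, ∀ u f : Fin a → F, f ⬝ᵥ u = 0 →
      vecMulVec u (f ᵥ* X) - vecMulVec (X *ᵥ u) f - (f ⬝ᵥ (X *ᵥ u)) • vecMulVec u f ∈ U := by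
    intro X hX u f h
    have h' : f ⬝ᵥ (-u) = 0 := by rw [dotProduct_neg, h, neg_zero]
    have hm := U.sub_mem (hU (tv u f) (tv_mem_specialLinear u f) X hX) hX
    convert hm using 1
    rw [tv_inv, tv_coe h, tv_coe h', neg_vecMulVec, add_mul, one_mul, mul_add, mul_one, mul_neg,
      add_mul, mul_vecMulVec, vecMulVec_mul, vecMulVec_mul_vecMulVec, vecMulVec_smul, ← dotProduct_mulVec]
    abel
  obtain ⟨e, he⟩ : ∃ e, ∀ k : F, k • e ≠ X *ᵥ e := by
    by_contra hc
    push Not at hc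
    choose k hk using hc
    rcases Nat.eq_zero_or_pos a with rfl | ha
    · exact hns 0 (Matrix.ext fun i => i.elim0)
    let i₀ : Fin a := ⟨0, ha⟩
    refine hns (k (Pi.single i₀ 1)) (Matrix.ext_of_mulVec_single fun j => ?_)
    rw [smul_mulVec, one_mulVec]
    rcases eq_or_ne j i₀ with rfl | hj
    · exact (hk _).symm
    have h1 := hk (Pi.single j 1 + Pi.single i₀ 1)
    rw [mulVec_add, ← hk, ← hk] at h1
    have e1 := congrFun h1 j
    have e2 := congrFun h1 i₀
    simp [hj, Ne.symm hj] at e1 e2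
    rw [← hk, ← e1, e2]
  have he0 : e ≠ 0 := fun h => he 0 (by rw [h, smul_zero, mulVec_zero])
  obtain ⟨f, hfe, hfX⟩ := exists_dot_eq_zero_one (a := e) (b := X *ᵥ e) he
  rw [dotProduct_comm] at hfe hfX
  have hf0 : f ≠ 0 := fun h => by rw [h, zero_dotProduct] at hfX; exact zero_ne_one hfX
  set D := vecMulVec e (f ᵥ* X) - vecMulVec (X *ᵥ e) f with hDdef
  have hDs : ∀ s : F, s • D - (s * s) • vecMulVec e f ∈ U := by
    intro s
    have := hD X hX e (s • f) (by rw [smul_dotProduct, hfe, smul_zero])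
    rw [smul_vecMul, vecMulVec_smul, vecMulVec_smul, smul_dotProduct, hfX, vecMulVec_smul, smul_smul,
      smul_eq_mul, mul_one, ← smul_sub, ← hDdef] at this
    exact this
  rcases hex with ha | ⟨s, hs0, hs1⟩
  · obtain ⟨h, hhe, hhX, hh0⟩ : ∃ h : Fin a → F, h ⬝ᵥ e = 0 ∧ h ⬝ᵥ (X *ᵥ e) = 0 ∧ h ≠ 0 := by
      let φ : (Fin a → F) →ₗ[F] (Fin 2 → F) :=
        { toFun := fun h => ![h ⬝ᵥ e, h ⬝ᵥ (X *ᵥ e)]
          map_add' := fun g h => by funext i; fin_cases i <;> simp [add_dotProduct]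
          map_smul' := fun k h => by funext i; fin_cases i <;> simp [smul_dotProduct] }
      have hker : LinearMap.ker φ ≠ ⊥ := LinearMap.ker_ne_bot_of_finrank_lt (by
        rw [Module.finrank_fin_fun, Module.finrank_fin_fun]; omega)
      obtain ⟨h, hh, hh0⟩ := Submodule.exists_mem_ne_zero_of_ne_bot hker
      exact ⟨h, congrFun hh 0, congrFun hh 1, hh0⟩
    have h1 := hD _ (hDs 1) e h hhe
    refine ⟨e, h, he0, hh0, hhe, ?_⟩
    have hDe : ((1 : F) • D - ((1 : F) * 1) • vecMulVec e f) *ᵥ e = e := by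
      rw [one_smul, mul_one, one_smul, hDdef, sub_mulVec, sub_mulVec, vecMulVec_mulVec', vecMulVec_mulVec',
        vecMulVec_mulVec', hfe, ← dotProduct_mulVec, hfX]
      simp
    have hhD : h ᵥ* ((1 : F) • D - ((1 : F) * 1) • vecMulVec e f) = 0 := by
      rw [one_smul, mul_one, one_smul, hDdef, vecMul_sub, vecMul_sub, vecMul_vecMulVec, vecMul_vecMulVec,
        vecMul_vecMulVec, hhe, hhX]
      simp
    rw [hDe, hhD, hhe, vecMulVec_zero, zero_smul, zero_sub, sub_zero] at h1
    simpa using U.neg_mem h1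
  · refine ⟨e, f, he0, hf0, hfe, ?_⟩
    have h := U.sub_mem (hDs s) (U.smul_mem s (hDs 1))
    rw [one_smul, mul_one, one_smul, smul_sub] at h
    have h' : (s - s * s) • vecMulVec e f ∈ U := by
      convert h using 1
      rw [hDdef]
      module
    have hne : s - s * s ≠ 0 := by
      rw [show s - s * s = s * (1 - s) by ring]
      exact mul_ne_zero hs0 (sub_ne_zero.mpr (Ne.symm hs1))
    simpa [smul_smul, inv_mul_cancel₀ hne] using U.smul_mem (s - s * s)⁻¹ h'

/-- The tensor stabiliser leaves no proper subspace invariant. -/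
theorem irreducible_of_tensSL_le [NeZero a] (hb : 2 ≤ b) {M : Subgroup (GL (Idx a b) F)}
    (hLM : tensSL a b F ≤ M) : Irreducible M := by
  classical
  intro W hW
  rcases eq_or_ne W ⊥ with h | h
  · exact Or.inl h
  refine Or.inr ?_
  obtain ⟨v, hvW, hv⟩ := Submodule.exists_mem_ne_zero_of_ne_bot h
  obtain ⟨⟨i, j⟩, hij⟩ := Function.ne_iff.mp hv
  have : Nontrivial (Fin b) := Fin.nontrivial_iff_two_le.mpr hb
  obtain ⟨j', hj'⟩ := exists_ne j
  set c : Fin b → F := Pi.single j' 1
  set ψ : Fin b → F := Pi.single j 1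
  have hcψ : ψ ⬝ᵥ c = 0 := by simp [c, ψ, hj']
  set u : Fin a → F := fun i => ψ ⬝ᵥ fun k => v (i, k)
  have hu : u ≠ 0 := fun hu => hij (by simpa [u, ψ] using congrFun hu i)
  have hpure : ten u c ∈ W := by
    have := W.sub_mem (hW _ (hLM (root_mem c ψ)) v hvW) hvW
    rw [root_val hcψ, add_mulVec, one_mulVec, add_sub_cancel_left, one_kron_vecMulVec_mulVec] at this
    exact this
  have hall : ∀ (x : Fin a → F) (y : Fin b → F), ten x y ∈ W := by
    intro x y
    rcases eq_or_ne x 0 with rfl | hx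
    · rw [ten_eq_zero.mpr (Or.inl rfl)]; exact W.zero_mem
    rcases eq_or_ne y 0 with rfl | hy
    · rw [ten_eq_zero.mpr (Or.inr rfl)]; exact W.zero_mem
    obtain ⟨S, hS, k, hk, hSu⟩ := exists_move hu hx
    obtain ⟨T, hT, l, hl, hTc⟩ := exists_move (u := c) (by simp [c]) hy
    have := W.smul_mem (k * l)⁻¹ (hW _ (hLM (krG_mem_tensSL hS hT)) _ hpure)
    rwa [krG_val, kron_mulVec_ten, hSu, hTc, ten_smul_left, ten_smul_right, smul_smul, smul_smul, mul_assoc,
      inv_mul_cancel₀ (mul_ne_zero hk hl), one_smul] at this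
  rw [Submodule.eq_top_iff']
  intro w
  have hw : w = ∑ p : Idx a b, ten (w p • Pi.single p.1 1) (Pi.single p.2 1) := by
    funext q
    rw [Finset.sum_apply, Finset.sum_eq_single q]
    · simp [ten]
    · rintro ⟨k, l⟩ _ hp
      simp only [ten, Pi.smul_apply, Pi.single_apply, smul_eq_mul]
      split_ifs <;> simp_all
      exact absurd (Prod.ext (by assumption) (by assumption)) (Ne.symm hp)
    · simp
  rw [hw]
  exact W.sum_mem fun p _ => hall _ _

/-- If `M` contains all tensor root groups it contains the special linear group. -/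
theorem specialLinear_le_of_rootIn [NeZero a] (ha : 2 ≤ a) (hb : 3 ≤ b)
    {M : Subgroup (GL (Idx a b) F)} (hLM : tensSL a b F ≤ M)
    (hR : ∀ (u f : Fin a → F) (c φ : Fin b → F), f ⬝ᵥ u = 0 → φ ⬝ᵥ c = 0 →
      RootIn M (ten u c) (ten f φ)) : specialLinear (Idx a b) F ≤ M := by
  classical
  have : Nontrivial (Fin a) := Fin.nontrivial_iff_two_le.mpr ha
  have : NeZero b := ⟨by omega⟩
  have : Nontrivial (Fin b) := Fin.nontrivial_iff_two_le.mpr (by omega)
  set f : Fin a → F := Pi.single 0 1 with hf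
  set φ : Fin b → F := Pi.single 0 1 with hφ
  set A := ten f φ with hA
  have hA0 : A ≠ 0 := by simp [hA, ten_eq_zero, hf, hφ]
  have hsingle : ∀ {n : ℕ} [NeZero n] (x : Fin n → F), (Pi.single (0 : Fin n) (1 : F)) ⬝ᵥ x = x 0 := by
    intro n _ x; simp
  -- `φ c' = 0`, arbitrary `u`
  have h1 : ∀ u c', φ ⬝ᵥ c' = 0 → ten u c' ∈ centres M A := by
    intro u c' hc'
    rw [mem_centres]
    by_cases hfu : f ⬝ᵥ u = 0
    · exact hR u f c' φ hfu hc'
    rcases eq_or_ne c' 0 with rfl | hc0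
    · rw [ten_eq_zero.mpr (Or.inr rfl)]; exact (centres M A).zero_mem
    obtain ⟨i, hi⟩ := exists_ne (0 : Fin a)
    set u₁ : Fin a → F := Pi.single i 1
    have hfu1 : f ⬝ᵥ u₁ = 0 := by rw [hf, hsingle]; simp [u₁, hi.symm]
    obtain ⟨f', hf'u, hf'u1⟩ := exists_dot_eq_zero_one (a := u) (b := u₁) (fun k hk => by
      rcases eq_or_ne k 0 with rfl | hk0
      · rw [zero_smul] at hk; simpa [u₁] using congrFun hk i
      · rw [← hk, dotProduct_smul, smul_eq_mul] at hfu1
        exact hfu ((mul_eq_zero.mp hfu1).resolve_left hk0))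
    rw [dotProduct_comm] at hf'u hf'u1
    obtain ⟨c₁, hc₁, φ', hφ'c', hφ'c₁⟩ : ∃ c₁, φ ⬝ᵥ c₁ = 0 ∧ ∃ φ' : Fin b → F,
        φ' ⬝ᵥ c' = 0 ∧ φ' ⬝ᵥ c₁ = 1 := by
      have hex : ∃ j : Fin b, j ≠ 0 ∧ ∀ k : F, k • c' ≠ Pi.single j 1 := by
        by_contra hcon
        push Not at hcon
        obtain ⟨j, hj⟩ := exists_ne (0 : Fin b)
        obtain ⟨l, hl, hlj⟩ : ∃ l : Fin b, l ≠ 0 ∧ l ≠ j := by
          obtain ⟨l, hl⟩ := Finset.exists_mem_notMem_of_card_lt_card
            (s := ({0, j} : Finset (Fin b))) (t := Finset.univ) (by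
              rw [Finset.card_univ, Fintype.card_fin]
              exact lt_of_le_of_lt Finset.card_le_two (by omega))
          simp at hl
          exact ⟨l, hl.1, hl.2⟩
        obtain ⟨k1, hk1⟩ := hcon j hj
        obtain ⟨k2, hk2⟩ := hcon l hl
        have e1 := congrFun hk1 l
        have e2 := congrFun hk2 l
        simp [hlj] at e1 e2
        rcases e1 with rfl | e1
        · simpa using congrFun hk1 j
        · rw [e1, mul_zero] at e2; exact zero_ne_one e2
      obtain ⟨j, hj, hjc⟩ := hex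
      obtain ⟨φ', h, h'⟩ := exists_dot_eq_zero_one (a := c') (b := Pi.single j 1) hjc
      rw [dotProduct_comm] at h h'
      exact ⟨Pi.single j 1, by rw [hφ, hsingle]; simp [hj.symm], φ', h, h'⟩
    refine (hR u₁ f c₁ φ hfu1 hc₁).rule_axis (b := ten f' φ') ?_ ((hR u f' c' φ' hf'u hφ'c').mem) ?_ ?_
    · rw [ten_dot, hf'u, zero_mul]
    · rw [hA, ten_dot, hc', mul_zero]
    · rw [ten_dot, hf'u1, hφ'c₁, one_mul]; exact one_ne_zero
  -- `f u = 0`, arbitrary `c`
  have h2 : ∀ u c, f ⬝ᵥ u = 0 → ten u c ∈ centres M A := by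
    intro u c hfu
    rw [mem_centres]
    by_cases hφc : φ ⬝ᵥ c = 0
    · exact hR u f c φ hfu hφc
    rcases eq_or_ne u 0 with rfl | hu0
    · rw [ten_eq_zero.mpr (Or.inl rfl)]; exact (centres M A).zero_mem
    obtain ⟨j, hj⟩ := exists_ne (0 : Fin b)
    obtain ⟨f', hf'u, hf'u0⟩ := exists_dot_eq_zero_one (a := u) (b := f) (fun k hk => by
      have := congrArg (f ⬝ᵥ ·) hk
      simp only [dotProduct_smul, hfu, smul_zero] at this
      rw [hf, hsingle] at this
      simp at this)
    rw [dotProduct_comm] at hf'u hf'u0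
    obtain ⟨φ', hφ'c, hφ'j⟩ := exists_dot_eq_zero_one (a := c) (b := Pi.single j 1) (fun k hk => by
      rcases eq_or_ne k 0 with rfl | hk0
      · rw [zero_smul] at hk; simpa using congrFun hk j
      · have := congrArg (φ ⬝ᵥ ·) hk
        simp only [dotProduct_smul, smul_eq_mul] at this
        rw [hφ, hsingle, hsingle, Pi.single_eq_of_ne hj.symm] at this
        exact hφc (by rw [hφ, hsingle]; exact (mul_eq_zero.mp this).resolve_left hk0))
    rw [dotProduct_comm] at hφ'c hφ'j
    refine (mem_centres.mp (h1 f (Pi.single j 1) (by rw [hφ, hsingle]; simp [hj.symm]))).rule_axis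
      (b := ten f' φ') ?_ ((hR u f' c φ' hf'u hφ'c).mem) ?_ ?_
    · rw [ten_dot, hf'u, zero_mul]
    · rw [hA, ten_dot, hfu, zero_mul]
    · rw [ten_dot, hf'u0, hφ'j, one_mul]; exact one_ne_zero
  refine specialLinear_le_of_fullAxis (irreducible_of_tensSL_le (by omega) hLM) hA0
    (fullAxis_of_centres fun v hv => ?_)
  -- every vector orthogonal to `A` is a sum of such centres
  have hv0 : v (0, 0) = 0 := by
    have hAe : A = Pi.single ((0, 0) : Idx a b) 1 := by
      funext p
      obtain ⟨i, j⟩ := p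
      simp only [hA, hf, hφ, ten, Pi.single_apply, Prod.mk.injEq]
      split_ifs <;> simp_all
    rw [hAe] at hv
    simpa using hv
  have hdec : v = ∑ p : Idx a b, ten (v p • Pi.single p.1 1) (Pi.single p.2 1) := by
    funext q
    rw [Finset.sum_apply, Finset.sum_eq_single q]
    · simp [ten]
    · rintro ⟨k, l⟩ _ hp
      simp only [ten, Pi.smul_apply, Pi.single_apply, smul_eq_mul]
      split_ifs <;> simp_all
      exact absurd (Prod.ext (by assumption) (by assumption)) (Ne.symm hp)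
    · simp
  rw [hdec]
  refine (centres M A).sum_mem fun p _ => ?_
  rcases eq_or_ne p.2 0 with hp2 | hp2
  · rcases eq_or_ne p.1 0 with hp1 | hp1
    · have : p = ((0, 0) : Idx a b) := Prod.ext hp1 hp2
      rw [this, hv0, zero_smul, ten_eq_zero.mpr (Or.inl rfl)]
      exact (centres M A).zero_mem
    · exact h2 _ _ (by rw [hf, hsingle]; simp [Ne.symm hp1])
  · exact h1 _ _ (by rw [hφ, hsingle]; simp [Ne.symm hp2])

/-- The conjugate of a row element by an element stabilising `F^a ⊗ e₀` is a row element. -/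
theorem conj_rowU_of_stab {y : GL (Idx a (m + 1)) F}
    (hz0 : ∀ s : Fin m, blk ((y⁻¹ : GL (Idx a (m + 1)) F) : Matrix (Idx a (m + 1)) (Idx a (m + 1)) F) s.succ 0 = 0)
    (hy0 : ∀ s : Fin m, blk (y : Matrix (Idx a (m + 1)) (Idx a (m + 1)) F) s.succ 0 = 0)
    (P : Fin m → Matrix (Fin a) (Fin a) F) :
    y * rowU P * y⁻¹ = rowU (fun s => blk (y : Matrix (Idx a (m + 1)) (Idx a (m + 1)) F) 0 0 *
      ∑ t, P t * blk ((y⁻¹ : GL (Idx a (m + 1)) F) : Matrix (Idx a (m + 1)) (Idx a (m + 1)) F) t.succ s.succ) := by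
  apply Units.ext
  rw [Units.val_mul, Units.val_mul, rowU_val, rowU_val, mul_add, mul_one, add_mul, Units.mul_inv]
  congr 1
  refine blk_ext fun j l => ?_
  set Y := (y : Matrix (Idx a (m + 1)) (Idx a (m + 1)) F)
  set Z := ((y⁻¹ : GL (Idx a (m + 1)) F) : Matrix (Idx a (m + 1)) (Idx a (m + 1)) F)
  have hYR : ∀ s, blk (Y * rowMat P) j s = blk Y j 0 * blk (rowMat P) 0 s := fun s => by
    rw [blk_mul, Fin.sum_univ_succ,
      Finset.sum_eq_zero (fun k _ => by rw [blk_rowMat_ne P (Fin.succ_ne_zero k), mul_zero]), add_zero]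
  rw [blk_mul, Fin.sum_univ_succ, hYR, blk_rowMat_zero, mul_zero, zero_mul, zero_add]
  simp only [hYR, blk_rowMat_succ, if_pos]
  cases l using Fin.cases with
  | zero =>
    rw [blk_rowMat_zero]
    exact Finset.sum_eq_zero fun k _ => by rw [hz0, mul_zero]
  | succ l =>
    cases j using Fin.cases with
    | zero =>
      rw [blk_rowMat_succ, if_pos rfl, Finset.mul_sum]
      simp only [mul_assoc]
    | succ j =>
      rw [blk_rowMat_succ, if_neg (Fin.succ_ne_zero j)]
      exact Finset.sum_eq_zero fun k _ => by rw [hy0, zero_mul, zero_mul]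

/-- An overgroup with an outside element stabilising `F^a ⊗ e₀` contains a non-scalar row element. -/
theorem exists_nonscalar [NeZero a] {p : ℕ} [Fact p.Prime] [CharP F p]
    {M : Subgroup (GL (Idx a (m + 1)) F)} (hLM : tensSL a (m + 1) F ≤ M)
    (hM : M ≤ specialLinear (Idx a (m + 1)) F) {y : GL (Idx a (m + 1)) F} (hyM : y ∈ M)
    (hyL : y ∉ tensSL a (m + 1) F)
    (hy : ∀ x, ∃ x', (y : Matrix (Idx a (m + 1)) (Idx a (m + 1)) F) *ᵥ ten x (Pi.single 0 1)
      = ten x' (Pi.single 0 1)) :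
    ∃ X : Fin m → Matrix (Fin a) (Fin a) F, rowU X ∈ M ∧ ∃ t, ∀ k : F, X t ≠ k • 1 := by
  classical
  set Y := (y : Matrix (Idx a (m + 1)) (Idx a (m + 1)) F) with hY
  set Z := ((y⁻¹ : GL (Idx a (m + 1)) F) : Matrix (Idx a (m + 1)) (Idx a (m + 1)) F) with hZ
  have hsingle : ∀ k : Fin a, (Pi.single (k, 0) 1 : Idx a (m + 1) → F)
      = ten (Pi.single k 1) (Pi.single 0 1) := by
    intro k
    funext q
    obtain ⟨i, j⟩ := q
    simp only [ten, Pi.single_apply, Prod.mk.injEq]
    split_ifs <;> simp_all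
  have hy0 : ∀ s : Fin m, blk Y s.succ 0 = 0 := by
    intro s
    ext i k
    obtain ⟨x', hx'⟩ := hy (Pi.single k 1)
    have := congrFun hx' (i, s.succ)
    rw [← hsingle, mulVec_single_one] at this
    simpa [blk, ten] using this
  have hSig : IsUnit (blk Y 0 0) := by
    rw [← mulVec_injective_iff_isUnit]
    intro x₁ x₂ hx
    have hYten : ∀ x, Y *ᵥ ten x (Pi.single 0 1) = ten (blk Y 0 0 *ᵥ x) (Pi.single 0 1) := by
      intro x
      obtain ⟨x', hx'⟩ := hy x
      rw [hx']
      congr 1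
      funext i
      have := congrFun hx' (i, 0)
      simp only [mulVec, dotProduct, ten, Fintype.sum_prod_type, Pi.single_apply, if_pos, mul_one,
        mul_ite, mul_zero, Finset.sum_ite_eq', Finset.mem_univ] at this
      exact this.symm
    have := (mulVec_injective_iff_isUnit.mpr y.isUnit)
      ((hYten x₁).trans ((congrArg (ten · (Pi.single 0 1)) hx).trans (hYten x₂).symm))
    exact ten_inj_left (by simp) this
  have hprod : ∀ j l, ∑ s, blk Y j s * blk Z s l = blk (1 : Matrix (Idx a (m + 1)) (Idx a (m + 1)) F) j l := by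
    intro j l
    rw [← blk_mul, hY, hZ, Units.mul_inv]
  have hprod' : ∀ j l, ∑ s, blk Z j s * blk Y s l = blk (1 : Matrix (Idx a (m + 1)) (Idx a (m + 1)) F) j l := by
    intro j l
    rw [← blk_mul, hY, hZ, Units.inv_mul]
  have hz0 : ∀ s : Fin m, blk Z s.succ 0 = 0 := by
    intro s
    have h := hprod' s.succ 0
    rw [Fin.sum_univ_succ, Finset.sum_eq_zero (fun k _ => by rw [hy0, mul_zero]), add_zero, blk_one,
      if_neg (Fin.succ_ne_zero s)] at h
    exact hSig.mul_left_eq_zero.mp h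
  have h00 : blk Y 0 0 * blk Z 0 0 = 1 := by
    have h := hprod 0 0
    rwa [Fin.sum_univ_succ, Finset.sum_eq_zero (fun k _ => by rw [hz0, mul_zero]), add_zero, blk_one,
      if_pos rfl] at h
  have h00' : blk Z 0 0 * blk Y 0 0 = 1 := mul_eq_one_comm.mp h00
  have hscalarL : ∀ φ : Fin m → F, rowU (fun t => φ t • (1 : Matrix (Fin a) (Fin a) F)) ∈ tensSL a (m + 1) F := by
    intro φ
    rw [← root_eq_rowU]
    exact root_mem _ _
  by_cases hcase : ∃ t s : Fin m, ∀ k : F, blk Y 0 0 * blk Z t.succ s.succ ≠ k • 1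
  · obtain ⟨t, s, hts⟩ := hcase
    set P : Fin m → Matrix (Fin a) (Fin a) F := fun u => (Pi.single t (1 : F) : Fin m → F) u • 1 with hP
    have hconj := M.mul_mem (M.mul_mem hyM (hLM (hscalarL (Pi.single t 1)))) (M.inv_mem hyM)
    rw [conj_rowU_of_stab hz0 hy0] at hconj
    refine ⟨_, hconj, s, fun k => ?_⟩
    rw [Finset.sum_eq_single t (fun u _ hu => by simp [hu]) (by simp)]
    simpa [hY, hZ] using hts k
  push Not at hcase
  choose Ψ hΨ using hcase
  let T : Matrix (Fin (m + 1)) (Fin (m + 1)) F := Matrix.of fun j l =>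
    Fin.cases (Fin.cases (1 : F) (fun _ => 0) l) (fun t => Fin.cases (0 : F) (fun s => Ψ t s) l) j
  let X : Fin m → Matrix (Fin a) (Fin a) F := fun t => blk Y 0 0 * blk Z 0 t.succ
  have hlow : ∀ t s, blk Z (Fin.succ t) (Fin.succ s) = Ψ t s • blk Z 0 0 := fun t s => by
    rw [← one_mul (blk Z t.succ s.succ), ← h00', mul_assoc, hΨ, mul_smul_comm, mul_one]
  have hfac : Z = (blk Z 0 0 ⊗ₖ T) * (1 + rowMat X) := by
    refine blk_ext fun j l => ?_
    rw [mul_add, mul_one, blk_add, blk_mul, Fin.sum_univ_succ,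
      Finset.sum_eq_zero (fun k _ => by rw [blk_rowMat_ne X (Fin.succ_ne_zero k), mul_zero]), add_zero,
      blk_kron, blk_kron]
    cases l using Fin.cases with
    | zero =>
      rw [blk_rowMat_zero, mul_zero, add_zero]
      cases j using Fin.cases with
      | zero => simp [T]
      | succ j => simp [T, hz0]
    | succ l =>
      rw [blk_rowMat_succ, if_pos rfl]
      cases j using Fin.cases with
      | zero => simp [T, X, ← mul_assoc, h00']
      | succ j => simp [T, hlow]
  have hdetT : T.det ≠ 0 := by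
    intro h
    apply ((Matrix.isUnit_iff_isUnit_det _).mp (y⁻¹).isUnit).ne_zero
    rw [← hZ, hfac, det_mul, det_kronecker, h, zero_pow (by rw [Fintype.card_fin]; exact NeZero.ne a),
      mul_zero, zero_mul]
  have hdetS : (blk Z 0 0).det ≠ 0 := (Matrix.isUnit_det_of_right_inverse h00').ne_zero
  set k := krG (Matrix.GeneralLinearGroup.mkOfDetNeZero _ hdetS, Matrix.GeneralLinearGroup.mkOfDetNeZero _ hdetT)
  have hyk : y⁻¹ = k * rowU X := Units.ext (by rw [← hZ, hfac]; rfl)
  have hkL : k ∈ tensSL a (m + 1) F := by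
    refine ⟨⟨_, _, rfl⟩, ?_⟩
    have h := hM (M.inv_mem hyM)
    rw [hyk] at h
    exact ((specialLinear _ F).mul_mem_cancel_right (rowU_mem_specialLinear X)).mp h
  have hXM : rowU X ∈ M := by
    have := M.mul_mem (M.inv_mem (hLM hkL)) (hyk ▸ M.inv_mem hyM)
    rwa [inv_mul_cancel_left] at this
  by_contra hcon
  push Not at hcon
  have hsc : ∀ t, ∃ c : F, X t = c • 1 := hcon X hXM
  choose c hc using hsc
  have hXL : rowU X ∈ tensSL a (m + 1) F := by
    rw [show X = fun t => c t • (1 : Matrix (Fin a) (Fin a) F) from funext hc]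
    exact hscalarL c
  apply hyL
  rw [← inv_mem_iff, hyk]
  exact (tensSL a (m + 1) F).mul_mem hkL hXL

/-- An overgroup properly containing the tensor stabiliser is the special linear group. -/
theorem specialLinear_le_of_not_mem [Finite F] [NeZero a] (ha : 2 ≤ a) (hab : a < b)
    (hex : 3 ≤ a ∨ 3 ≤ Nat.card F) {M : Subgroup (GL (Idx a b) F)} (hLM : tensSL a b F ≤ M)
    (hM : M ≤ specialLinear (Idx a b) F) {g : GL (Idx a b) F} (hgM : g ∈ M)
    (hgL : g ∉ tensSL a b F) : specialLinear (Idx a b) F ≤ M := by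
  classical
  obtain ⟨m, rfl⟩ : ∃ m, b = m + 1 := ⟨b - 1, by omega⟩
  set p := ringChar F
  have : Fact p.Prime := ⟨CharP.char_is_prime F p⟩
  have : Fintype F := Fintype.ofFinite F
  have hex' : 3 ≤ a ∨ ∃ s : F, s ≠ 0 ∧ s ≠ 1 := hex.imp_right fun h => by
    obtain ⟨s, hs⟩ := Finset.exists_mem_notMem_of_card_lt_card (s := ({0, 1} : Finset F)) (t := Finset.univ) (by
      rw [Finset.card_univ, ← Nat.card_eq_fintype_card]
      exact lt_of_le_of_lt Finset.card_le_two (by omega))
    simp at hs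
    exact ⟨s, hs.1, hs.2⟩
  obtain ⟨y, hyM, hyL, c, hc, hy⟩ := exists_block_fixing ha hab hLM hgM hgL
  obtain ⟨T, hT, k, hk, hTc⟩ := exists_move (u' := (Pi.single 0 1 : Fin (m + 1) → F)) hc (by simp)
  set h := krG ((1 : GL (Fin a) F), T) with hh
  have hhL : h ∈ tensSL a (m + 1) F := krG_mem_tensSL (Subgroup.one_mem _) hT
  have hy'L : h * y * h⁻¹ ∉ tensSL a (m + 1) F := fun hm => hyL (by
    have := (tensSL a (m + 1) F).mul_mem ((tensSL a (m + 1) F).mul_mem ((tensSL a (m + 1) F).inv_mem hhL) hm) hhL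
    simpa [mul_assoc] using this)
  obtain ⟨X, hXM, t₀, ht₀⟩ := exists_nonscalar (p := p) hLM hM
    (M.mul_mem (M.mul_mem (hLM hhL) hyM) (M.inv_mem (hLM hhL))) hy'L (fun x => by
    obtain ⟨x', hx'⟩ := hy x
    refine ⟨x', ?_⟩
    have hinv : ((h⁻¹ : GL (Idx a (m + 1)) F) : Matrix (Idx a (m + 1)) (Idx a (m + 1)) F) *ᵥ ten x (Pi.single 0 1)
        = ten x (k⁻¹ • c) := by
      apply mulVec_injective_iff_isUnit.mpr h.isUnit
      rw [mulVec_mulVec, Units.mul_inv, one_mulVec, hh, krG_val, kron_mulVec_ten, Units.val_one, one_mulVec,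
        mulVec_smul, hTc, smul_smul, inv_mul_cancel₀ hk, one_smul]
    rw [Units.val_mul, Units.val_mul, ← mulVec_mulVec, ← mulVec_mulVec, hinv, ten_smul_right, mulVec_smul, hx',
      mulVec_smul, hh, krG_val, kron_mulVec_ten, Units.val_one, one_mulVec, hTc, ten_smul_right, smul_smul,
      inv_mul_cancel₀ hk, one_smul])
  have hm2 : 2 ≤ m := by omega
  -- transvection in the second factor
  have hshift : ∀ (X : Fin m → Matrix (Fin a) (Fin a) F), rowU X ∈ M → ∀ s t, s ≠ t → ∀ l : F,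
      rowU (Pi.single t (l • X s)) ∈ M := by
    intro X hX s t hst l
    have hTl : krG ((1 : GL (Fin a) F), tv (Pi.single s.succ l) (Pi.single t.succ 1)) ∈ M :=
      hLM (krG_mem_tensSL (Subgroup.one_mem _) (tv_mem_specialLinear _ _))
    have hconj := M.mul_mem (M.mul_mem hTl hX) (M.inv_mem hTl)
    have hd : (Pi.single t.succ (1 : F) : Fin (m + 1) → F) ⬝ᵥ Pi.single s.succ l = 0 := by simp [hst.symm]
    rw [conj_rowU (X' := X - Pi.single t (l • X s)) (by
        rw [tv_coe hd, Matrix.add_apply, one_apply_eq, vecMulVec_apply]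
        simp [(Fin.succ_ne_zero s).symm])
      (fun u => by
        rw [tv_coe hd, Matrix.add_apply, one_apply_ne (Fin.succ_ne_zero u), vecMulVec_apply]
        simp [(Fin.succ_ne_zero t).symm])
      (fun v => by
        simp only [Units.val_one, one_mul, mul_one, tv_coe hd, Matrix.add_apply, vecMulVec_apply, add_smul,
          Finset.sum_add_distrib, Matrix.one_apply, Fin.succ_inj, Pi.single_apply, ite_smul, one_smul,
          zero_smul, Finset.sum_ite_eq', Finset.mem_univ, if_true, mul_ite, mul_zero,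
          Pi.sub_apply]
        rcases eq_or_ne v t with rfl | hv
        · simp [hst, Finset.sum_ite_eq']
        · simp [hv])] at hconj
    have := M.mul_mem (M.inv_mem hconj) hX
    rw [← rowU_neg, ← rowU_add] at this
    simpa using this
  let U : Submodule F (Matrix (Fin a) (Fin a) F) :=
    { carrier := {Z | ∀ t (l : F), rowU (Pi.single t (l • Z)) ∈ M}
      add_mem' := fun {Z W} hZ hW t l => by rw [smul_add, Pi.single_add, rowU_add]; exact M.mul_mem (hZ t l) (hW t l)
      zero_mem' := fun t l => by rw [smul_zero, Pi.single_zero, rowU_zero]; exact M.one_mem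
      smul_mem' := fun k Z hZ t l => by rw [smul_smul]; exact hZ t (l * k) }
  have hU : ∀ S ∈ specialLinear (Fin a) F, ∀ Z ∈ U,
      (S : Matrix (Fin a) (Fin a) F) * Z * ((S⁻¹ : GL (Fin a) F) : Matrix (Fin a) (Fin a) F) ∈ U := by
    intro S hS Z hZ t l
    have hSL := hLM (krG_mem_tensSL hS (Subgroup.one_mem (specialLinear (Fin (m + 1)) F)))
    have := M.mul_mem (M.mul_mem hSL (hZ t l)) (M.inv_mem hSL)
    rwa [conj_rowU (X' := Pi.single t (l • ((S : Matrix (Fin a) (Fin a) F) * Z * ((S⁻¹ : GL (Fin a) F) : Matrix (Fin a) (Fin a) F))))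
      (by simp) (fun u => by simp [Fin.succ_ne_zero]) (fun u => by
        simp only [Units.val_one, Matrix.one_apply, Fin.succ_inj, ite_smul, one_smul, zero_smul,
          Finset.sum_ite_eq', Finset.mem_univ, if_true]
        rcases eq_or_ne u t with rfl | hu
        · simp [mul_assoc]
        · simp [hu])] at this
  have hXU : X t₀ ∈ U := by
    intro t l
    rcases eq_or_ne t₀ t with rfl | ht
    · have : Nontrivial (Fin m) := Fin.nontrivial_iff_two_le.mpr hm2
      obtain ⟨s, hs⟩ := exists_ne t₀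
      have h1 := hshift _ (hshift X hXM t₀ s (Ne.symm hs) 1) s t₀ hs l
      simpa using h1
    · exact hshift X hXM t₀ t ht l
  obtain ⟨u₀, f₀, hu₀, hf₀, hfu₀, hmem⟩ := exists_rank_one hex' U hU hXU ht₀
  -- all rank one nilpotents
  have hvec : ∀ u f : Fin a → F, f ⬝ᵥ u = 0 → vecMulVec u f ∈ U := by
    intro u f hfu
    rcases eq_or_ne u 0 with rfl | hu
    · rw [zero_vecMulVec]; exact U.zero_mem
    rcases eq_or_ne f 0 with rfl | hf
    · rw [vecMulVec_zero]; exact U.zero_mem
    obtain ⟨S, hS, k, l, hk, hl, hSu, hfS⟩ := exists_move_pair hu₀ hu hf₀ hf hfu₀ hfu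
    have h := U.smul_mem (k * l)⁻¹ (hU S hS _ hmem)
    rwa [mul_vecMulVec, vecMulVec_mul, hSu, hfS, smul_vecMulVec, vecMulVec_smul, smul_smul, smul_smul, mul_assoc,
      inv_mul_cancel₀ (mul_ne_zero hk hl), one_smul] at h
  refine specialLinear_le_of_rootIn ha (by omega) hLM fun u f c φ hfu hφc => ?_
  rcases eq_or_ne c 0 with rfl | hc
  · rw [ten_eq_zero.mpr (Or.inr rfl)]; exact (centres M _).zero_mem
  rcases eq_or_ne φ 0 with rfl | hφ
  · rw [ten_eq_zero.mpr (Or.inr rfl)]; exact (axes M _).zero_mem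
  let t : Fin m := ⟨0, by omega⟩
  have hbase : RootIn M (ten u (Pi.single 0 1)) (ten f (Pi.single t.succ 1)) := by
    refine ⟨by rw [ten_dot, hfu, zero_mul], fun d => ?_⟩
    rw [← ten_smul_left, ← rowU_single_vecMulVec t _ _ (by rw [dotProduct_smul, hfu, smul_zero]), smul_vecMulVec]
    exact hvec u f hfu t d
  obtain ⟨T, hT, k, l, hk, hl, hTc, hTφ⟩ := exists_move_pair (u := (Pi.single 0 1 : Fin (m + 1) → F))
    (f := Pi.single t.succ 1) (by simp) hc (by simp) hφ (by simp) hφc
  have hR := ((hbase.conj (hLM (krG_mem_tensSL (Subgroup.one_mem (specialLinear (Fin a) F)) hT))).smul_left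
    k⁻¹).smul_right l⁻¹
  rw [← map_inv, Prod.inv_mk, inv_one, krG_val, krG_val, kron_mulVec_ten, ten_vecMul_kron, Units.val_one,
    one_mulVec, vecMul_one, hTc, hTφ, ten_smul_right, ten_smul_right, smul_smul, smul_smul,
    inv_mul_cancel₀ hk, inv_mul_cancel₀ hl, one_smul, one_smul] at hR
  exact hR

/-- The tensor stabiliser `a ⊗ b`, `a < b`, `(a, q) ≠ (2, 2)`, is maximal in the special linear group. -/
theorem isMaximalIn_tensSL [Finite F] (ha : 2 ≤ a) (hab : a < b) (hex : 3 ≤ a ∨ 3 ≤ Nat.card F) :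
    IsMaximalIn (specialLinear (Idx a b) F) (tensSL a b F) := by
  have : NeZero a := ⟨by omega⟩
  have : NeZero b := ⟨by omega⟩
  refine isMaximalIn_of inf_le_right ?_ fun M hLM hM g hg hgL =>
    specialLinear_le_of_not_mem ha hab hex hLM hM hg hgL
  -- a transvection outside
  let v : Idx a b → F := ten (Pi.single 0 1) (Pi.single 0 1)
  let i : Fin a := ⟨1, by omega⟩
  let j : Fin b := ⟨1, by omega⟩
  let w : Idx a b → F := Pi.single (i, j) 1
  have hi : i ≠ 0 := by simp [i, Fin.ext_iff]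
  have hj : j ≠ 0 := by simp [j, Fin.ext_iff]
  let z : Idx a b → F := Pi.single ((0, 0) : Idx a b) 1
  have hzw : z ⬝ᵥ w = 0 := by simp [z, w, hi]
  refine ⟨tv w z, tv_mem_specialLinear _ _, fun h => ?_⟩
  obtain ⟨S, T, hST⟩ := h.1
  have h1 := congrFun (congrFun hST (i, j)) (0, 0)
  have h2 := congrFun (congrFun hST (i, (0 : Fin b))) (0, 0)
  have h3 := congrFun (congrFun hST ((0 : Fin a), (0 : Fin b))) (0, 0)
  rw [tv_coe hzw] at h1 h2 h3
  simp [w, z, vecMulVec_apply, kroneckerMap_apply, hi, hj] at h1 h2 h3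
  rcases h2 with h2 | h2
  · exact one_ne_zero (h1.trans (by rw [h2, zero_mul]))
  · rw [h2, mul_zero] at h3; exact one_ne_zero h3

end CfsgLib.TensorMax
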