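import Cfsg.Agent.TensorMax.Basic

/-!
# Elements of `p`-power order and small rank in a tensor stabiliser
-/

set_option autoImplicit false
set_option linter.unusedSectionVars false

namespace CfsgLib.TensorMax

open Matrix Cfsg.Geo CfsgLib.MaxSub
open scoped Kronecker

variable {F : Type*} [Field F] {a b : ℕ}

/-- `x ↦ x ⊗ c`. -/
def tenL (c : Fin b → F) : (Fin a → F) →ₗ[F] (Idx a b → F) where
  toFun x := ten x c
  map_add' x y := ten_add_left x y c
  map_smul' k x := ten_smul_left k x c

theorem tenL_injective {c : Fin b → F} (hc : c ≠ 0) : Function.Injective (tenL (a := a) c) :=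
  fun _ _ h => ten_inj_left hc h

theorem one_kron_vecMulVec_mulVec (c ψ : Fin b → F) (v : Idx a b → F) :
    ((1 : Matrix (Fin a) (Fin a) F) ⊗ₖ vecMulVec c ψ) *ᵥ v = ten (fun i => ψ ⬝ᵥ fun k => v (i, k)) c := by
  funext p
  simp only [mulVec, dotProduct, ten, kroneckerMap_apply, Fintype.sum_prod_type, vecMulVec_apply]
  rw [Finset.sum_eq_single p.1]
  · rw [Finset.sum_mul]
    refine Finset.sum_congr rfl fun k _ => ?_
    rw [one_apply_eq]; ring
  · intro i _ hi
    refine Finset.sum_eq_zero fun k _ => ?_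
    rw [one_apply_ne (Ne.symm hi)]; ring
  · simp

/-- The image of `root c ψ - 1` is `F^a ⊗ c`. -/
theorem range_root_sub_one {c ψ : Fin b → F} (hψ : ψ ≠ 0) (h : ψ ⬝ᵥ c = 0) :
    LinearMap.range (((root (a := a) c ψ : Matrix (Idx a b) (Idx a b) F) - 1).mulVecLin)
      = LinearMap.range (tenL (a := a) c) := by
  rw [root_val h, add_sub_cancel_left]
  apply le_antisymm
  · rintro _ ⟨v, rfl⟩
    exact ⟨fun i => ψ ⬝ᵥ fun k => v (i, k), (one_kron_vecMulVec_mulVec c ψ v).symm⟩
  · rintro _ ⟨x, rfl⟩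
    obtain ⟨y, hy⟩ := exists_dot_eq_one hψ
    refine ⟨ten x y, ?_⟩
    rw [mulVecLin_apply, kron_mulVec_ten, one_mulVec, vecMulVec_mulVec', dotProduct_comm ψ y, hy,
      one_smul]
    rfl

theorem rank_root_sub_one {c ψ : Fin b → F} (hc : c ≠ 0) (hψ : ψ ≠ 0) (h : ψ ⬝ᵥ c = 0) :
    ((root (a := a) c ψ : Matrix (Idx a b) (Idx a b) F) - 1).rank = a := by
  rw [Matrix.rank, range_root_sub_one hψ h, LinearMap.finrank_range_of_inj (tenL_injective hc),
    Module.finrank_fin_fun]

theorem rank_conj_sub_one {ι : Type} [Fintype ι] [DecidableEq ι] (g u : GL ι F) :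
    (((g * u * g⁻¹ : GL ι F) : Matrix ι ι F) - 1).rank = ((u : Matrix ι ι F) - 1).rank := by
  have e : ((g * u * g⁻¹ : GL ι F) : Matrix ι ι F) - 1
      = (g : Matrix ι ι F) * ((u : Matrix ι ι F) - 1) * ((g⁻¹ : GL ι F) : Matrix ι ι F) := by
    rw [mul_sub, sub_mul, mul_one, Units.mul_inv, Units.val_mul, Units.val_mul]
  rw [e, rank_mul_eq_left_of_isUnit_det _ _ ((Matrix.isUnit_iff_isUnit_det _).mp (g⁻¹).isUnit),
    rank_mul_eq_right_of_isUnit_det _ _ ((Matrix.isUnit_iff_isUnit_det _).mp g.isUnit)]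

/-- A non-zero nilpotent matrix has a non-zero left null vector. -/
theorem exists_vecMul_eq_zero {n : ℕ} [NeZero n] {N : Matrix (Fin n) (Fin n) F} (hN : IsNilpotent N) :
    ∃ l : Fin n → F, l ≠ 0 ∧ l ᵥ* N = 0 := by
  refine exists_vecMul_eq_zero_iff.mpr ?_
  obtain ⟨k, hk⟩ := hN
  have := congrArg Matrix.det hk
  rw [det_pow, det_zero] at this
  exact eq_zero_of_pow_eq_zero this

/-- Elements of `p`-power order of a tensor group have factors of `p`-power order. -/
theorem exists_unipotent_factors [Finite F] [NeZero a] [NeZero b] {p : ℕ} [Fact p.Prime] [CharP F p]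
    {S : GL (Fin a) F} {T : GL (Fin b) F} {k : ℕ} (hk : krG (S, T) ^ p ^ k = 1) :
    ∃ (S' : Matrix (Fin a) (Fin a) F) (T' : Matrix (Fin b) (Fin b) F),
      (krG (S, T) : Matrix (Idx a b) (Idx a b) F) = S' ⊗ₖ T' ∧ IsNilpotent (S' - 1) ∧
        IsNilpotent (T' - 1) := by
  classical
  have h1 : ((S : Matrix (Fin a) (Fin a) F) ^ p ^ k) ⊗ₖ ((T : Matrix (Fin b) (Fin b) F) ^ p ^ k) = 1 := by
    rw [← Units.val_pow_eq_pow_val, ← Units.val_pow_eq_pow_val, ← krG_val, ← Prod.pow_mk, map_pow, hk,
      Units.val_one]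
  set A := (S : Matrix (Fin a) (Fin a) F) ^ p ^ k with hA
  set B := (T : Matrix (Fin b) (Fin b) F) ^ p ^ k with hB
  have he : ∀ i j r s, A i r * B j s = (1 : Matrix (Idx a b) (Idx a b) F) (i, j) (r, s) :=
    fun i j r s => congrFun (congrFun h1 (i, j)) (r, s)
  have hA00 : A 0 0 ≠ 0 := by
    intro h
    have := he 0 0 0 0
    rw [h, zero_mul, one_apply_eq] at this
    exact zero_ne_one this
  have hB00 : B 0 0 ≠ 0 := by
    intro h
    have := he 0 0 0 0
    rw [h, mul_zero, one_apply_eq] at this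
    exact zero_ne_one this
  have hB1 : B = (A 0 0)⁻¹ • 1 := by
    ext j s
    rw [Matrix.smul_apply, smul_eq_mul, eq_inv_mul_iff_mul_eq₀ hA00, he 0 j 0 s]
    simp [Matrix.one_apply]
  have hA1 : A = A 0 0 • 1 := by
    ext i r
    have h := he i 0 r 0
    rw [hB1, Matrix.smul_apply, one_apply_eq, smul_eq_mul, mul_one, mul_inv_eq_iff_eq_mul₀ hA00] at h
    rw [h, Matrix.smul_apply, smul_eq_mul]
    simp [Matrix.one_apply, mul_comm]
  obtain ⟨μ, hμ⟩ := (Finite.injective_iff_surjective.mp (iterateFrobenius_inj F p k)) (A 0 0)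
  rw [iterateFrobenius_def] at hμ
  have hμ0 : μ ≠ 0 := by
    rintro rfl
    rw [zero_pow (pow_ne_zero _ (Fact.out (p := p.Prime)).ne_zero)] at hμ
    exact hA00 hμ.symm
  refine ⟨μ⁻¹ • (S : Matrix (Fin a) (Fin a) F), μ • (T : Matrix (Fin b) (Fin b) F), ?_, ⟨p ^ k, ?_⟩,
    ⟨p ^ k, ?_⟩⟩
  · rw [krG_val, smul_kronecker, kronecker_smul, smul_smul, inv_mul_cancel₀ hμ0, one_smul]
  · rw [sub_pow_char_pow_of_commute _ _ (Commute.one_right _), smul_pow, ← hA, hA1, smul_smul, inv_pow,
      hμ, inv_mul_cancel₀ hA00, one_smul, one_pow, sub_self]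
  · rw [sub_pow_char_pow_of_commute _ _ (Commute.one_right _), smul_pow, ← hB, hB1, smul_smul, hμ,
      mul_inv_cancel₀ hA00, one_smul, one_pow, sub_self]

/-- In a tensor group with `a < b`, an element of `p`-power order whose difference with 1 has rank `a` is
a root element of the second factor. -/
theorem eq_root_of_rank [Finite F] [NeZero a] (hab : a < b) {p : ℕ} [Fact p.Prime] [CharP F p]
    {u : GL (Idx a b) F} (hu : u ∈ kroneckerSubgroup a b F) {k : ℕ} (hk : u ^ p ^ k = 1)
    (hr : ((u : Matrix (Idx a b) (Idx a b) F) - 1).rank = a) :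
    ∃ c ψ : Fin b → F, c ≠ 0 ∧ ψ ≠ 0 ∧ ψ ⬝ᵥ c = 0 ∧ u = root c ψ := by
  classical
  have : NeZero b := ⟨by omega⟩
  obtain ⟨S₀, T₀, rfl⟩ := mem_kroneckerSubgroup_iff.mp hu
  obtain ⟨S, T, hST, hS, hT⟩ := exists_unipotent_factors hk
  rw [hST] at hr
  set N := T - 1 with hN
  have hTN : T = 1 + N := by rw [hN, add_sub_cancel]
  by_cases hS1 : S = 1
  · rw [hS1] at hST hr
    rw [hTN, kronecker_add, one_kronecker_one, add_sub_cancel_left] at hr
    let f : (Fin a → LinearMap.range N.mulVecLin) →ₗ[F] (Idx a b → F) :=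
      { toFun := fun y p => (y p.1 : Fin b → F) p.2
        map_add' := fun y z => by funext p; simp
        map_smul' := fun c y => by funext p; simp }
    have hf : Function.Injective f := fun y z h => by
      funext i
      apply Subtype.ext
      funext j
      exact congrFun h (i, j)
    have hle : a * N.rank ≤ a := by
      have h2 : LinearMap.range f ≤ LinearMap.range ((1 : Matrix (Fin a) (Fin a) F) ⊗ₖ N).mulVecLin := by
        rintro _ ⟨y, rfl⟩
        have hy : ∀ i, ∃ x, N *ᵥ x = (y i : Fin b → F) := fun i => by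
          obtain ⟨x, hx⟩ := (y i).2
          exact ⟨x, hx⟩
        choose x hx using hy
        refine ⟨fun p => x p.1 p.2, ?_⟩
        funext p
        show _ = (y p.1 : Fin b → F) p.2
        rw [← hx p.1, mulVecLin_apply]
        simp only [mulVec, dotProduct, kroneckerMap_apply, Fintype.sum_prod_type]
        rw [Finset.sum_eq_single p.1]
        · simp
        · intro i _ hi; simp [one_apply_ne (Ne.symm hi)]
        · simp
      have h3 := Submodule.finrank_mono h2
      rw [LinearMap.finrank_range_of_inj hf, Module.finrank_pi_fintype] at h3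
      simp only [Finset.sum_const, Finset.card_univ, Fintype.card_fin, smul_eq_mul] at h3
      rw [Matrix.rank] at hr ⊢
      omega
    have hN0 : N ≠ 0 := by
      intro h
      rw [h, kronecker_zero, Matrix.rank_zero] at hr
      exact NeZero.ne a hr.symm
    have hR : N.rank ≤ 1 := Nat.le_of_mul_le_mul_left (by rwa [mul_one]) (Nat.pos_of_neZero a)
    obtain ⟨⟨c, hcmem⟩, hc⟩ := finrank_le_one_iff.mp hR
    choose ψ hψ using fun j : Fin b => hc ⟨N *ᵥ Pi.single j 1, ⟨_, rfl⟩⟩
    have hNe : N = vecMulVec c ψ := by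
      refine Matrix.ext fun i j => ?_
      have := congrFun (congrArg Subtype.val (hψ j)) i
      simp only [SetLike.val_smul, Pi.smul_apply, smul_eq_mul, mulVec_single_one, col_apply] at this
      rw [vecMulVec_apply, ← this, mul_comm]
    have hc0 : c ≠ 0 := fun h => hN0 (by rw [hNe, h, zero_vecMulVec])
    have hψ0 : ψ ≠ 0 := fun h => hN0 (by rw [hNe, h, vecMulVec_zero])
    have hdot : ψ ⬝ᵥ c = 0 := by
      by_contra hne
      obtain ⟨m, hm⟩ := hT
      have hev : ∀ j : ℕ, N ^ j *ᵥ c = (ψ ⬝ᵥ c) ^ j • c := by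
        intro j
        induction j with
        | zero => simp
        | succ j ih =>
          rw [pow_succ', ← mulVec_mulVec, ih, mulVec_smul, hNe, vecMulVec_mulVec', smul_smul, pow_succ]
      have := hev m
      rw [hm, zero_mulVec] at this
      exact hne (eq_zero_of_pow_eq_zero ((smul_eq_zero.mp this.symm).resolve_right hc0))
    refine ⟨c, ψ, hc0, hψ0, hdot, Units.ext ?_⟩
    rw [root_val hdot, hST, hTN, hNe, kronecker_add, one_kronecker_one]
  · exfalso
    obtain ⟨l, hl0, hl⟩ := exists_vecMul_eq_zero hS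
    obtain ⟨x, hx⟩ : ∃ x, (S - 1) *ᵥ x ≠ 0 := by
      by_contra h
      push Not at h
      exact hS1 (sub_eq_zero.mp (Matrix.ext_of_mulVec_single fun i => by rw [h, zero_mulVec]))
    have hlS : l ᵥ* S = l := by
      rw [vecMul_sub, vecMul_one, sub_eq_zero] at hl; exact hl
    set D := LinearMap.range (S ⊗ₖ T - 1).mulVecLin with hD
    let π : (Idx a b → F) →ₗ[F] (Fin b → F) :=
      { toFun := fun v j => l ⬝ᵥ fun i => v (i, j)
        map_add' := fun v w => by funext j; exact dotProduct_add l _ _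
        map_smul' := fun c v => by funext j; exact dotProduct_smul c l _ }
    have hπ : ∀ x y, π (ten x y) = (l ⬝ᵥ x) • y := by
      intro x y
      funext j
      show (l ⬝ᵥ fun i => x i * y j) = (l ⬝ᵥ x) * y j
      simp only [dotProduct, Finset.sum_mul, mul_assoc]
    let π' := π.domRestrict D
    have h1 : LinearMap.range N.mulVecLin ≤ LinearMap.range π' := by
      rintro _ ⟨y, rfl⟩
      obtain ⟨z, hz⟩ := exists_dot_eq_one hl0
      refine ⟨⟨_, ⟨ten z y, rfl⟩⟩, ?_⟩
      show π ((S ⊗ₖ T - 1) *ᵥ ten z y) = N *ᵥ y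
      rw [sub_mulVec, one_mulVec, kron_mulVec_ten, map_sub, hπ, hπ, dotProduct_mulVec, hlS,
        dotProduct_comm l z, hz, one_smul, one_smul, hN, sub_mulVec, one_mulVec]
    have h2 : Module.finrank F (LinearMap.ker N.mulVecLin) ≤ Module.finrank F (LinearMap.ker π') := by
      let f : LinearMap.ker N.mulVecLin →ₗ[F] LinearMap.ker π' :=
        { toFun := fun y => ⟨⟨ten ((S - 1) *ᵥ x) (y : Fin b → F), ⟨ten x (y : Fin b → F), by
            have hy : T *ᵥ (y : Fin b → F) = (y : Fin b → F) := by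
              have := y.2
              rw [LinearMap.mem_ker, mulVecLin_apply] at this
              have h' : (T - 1) *ᵥ (y : Fin b → F) = 0 := this
              rw [sub_mulVec, one_mulVec, sub_eq_zero] at h'
              exact h'
            rw [mulVecLin_apply, sub_mulVec, one_mulVec, kron_mulVec_ten, hy]
            funext p
            simp [ten, sub_mulVec, sub_mul]⟩⟩, by
            rw [LinearMap.mem_ker]
            show π (ten _ _) = 0
            rw [hπ, dotProduct_mulVec, hl, zero_dotProduct, zero_smul]⟩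
          map_add' := fun y z => Subtype.ext (Subtype.ext (ten_add_right _ _ _))
          map_smul' := fun c y => Subtype.ext (Subtype.ext (ten_smul_right _ _ _)) }
      refine LinearMap.finrank_le_finrank_of_injective (f := f) fun y z h => Subtype.ext ?_
      exact ten_inj_right hx (congrArg (fun w => ((w : LinearMap.ker π') : D).1) h)
    have h3 := π'.finrank_range_add_finrank_ker
    have h4 := N.mulVecLin.finrank_range_add_finrank_ker
    rw [Module.finrank_fin_fun] at h4
    have h5 := Submodule.finrank_mono h1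
    rw [Matrix.rank, ← hD] at hr
    omega

end CfsgLib.TensorMax
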